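/-
The group `2^{1+4}.A5` inside `Sp(4,3)`: coordinates.

* `M4`, `app`, `comp` : linear maps of `V = F₃² ⊕ F₃²` by images of the basis;
* `rList`, `cbList` : the extraspecial group `R` and its normaliser in the symplectic group;
* `mem_cbList` : a symplectic map normalising `R` lies in `cbList`.
-/
import Cfsg.Agent.EqLemmas
import Mathlib

set_option autoImplicit false
set_option maxRecDepth 100000
set_option linter.style.longLine false

namespace Cfsg.Agent.CoTwoThree

/-- The field with three elements. -/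
abbrev F := ZMod 3

/-- A plane. -/
abbrev V2 := F × F

/-- Two planes. -/
abbrev V := V2 × V2

/-- The determinant form on a plane. -/
def det2 (u v : V2) : F := u.1 * v.2 - u.2 * v.1

/-- The alternating form. -/
def om (u v : V) : F := det2 u.1 v.1 + det2 u.2 v.2

/-- A linear map of `V`, by the images of the basis. -/
structure M4 : Type where
  /-- image of the first vector -/
  c0 : V
  /-- image of the second vector -/
  c1 : V
  /-- image of the third vector -/
  c2 : V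
  /-- image of the fourth vector -/
  c3 : V
deriving DecidableEq

/-- The first basis vector. -/
def b0 : V := ((1, 0), (0, 0))
/-- The second basis vector. -/
def b1 : V := ((0, 1), (0, 0))
/-- The third basis vector. -/
def b2 : V := ((0, 0), (1, 0))
/-- The fourth basis vector. -/
def b3 : V := ((0, 0), (0, 1))

/-- Scalar multiple of a pair of planes. -/
def sm (a : F) (v : V) : V := ((a * v.1.1, a * v.1.2), (a * v.2.1, a * v.2.2))

/-- The linear map. -/
def app (m : M4) (v : V) : V := sm v.1.1 m.c0 + sm v.1.2 m.c1 + sm v.2.1 m.c2 + sm v.2.2 m.c3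

/-- Composition. -/
def comp (m n : M4) : M4 := ⟨app m n.c0, app m n.c1, app m n.c2, app m n.c3⟩

/-- The identity. -/
def idM : M4 := ⟨b0, b1, b2, b3⟩

theorem sm_add (a : F) (v w : V) : sm a (v + w) = sm a v + sm a w := by
  ext <;> simp [sm] <;> ring

theorem sm_add_left (a b : F) (v : V) : sm (a + b) v = sm a v + sm b v := by
  ext <;> simp [sm] <;> ring

theorem sm_sm (a b : F) (v : V) : sm a (sm b v) = sm (a * b) v := by
  ext <;> simp [sm] <;> ring

theorem app_add (m : M4) (v w : V) : app m (v + w) = app m v + app m w := by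
  simp only [app, Prod.fst_add, Prod.snd_add, sm_add_left]
  abel

theorem app_sm (m : M4) (a : F) (v : V) : app m (sm a v) = sm a (app m v) := by
  simp only [app, sm_add, sm_sm]; rfl

theorem app_comp (m n : M4) (v : V) : app (comp m n) v = app m (app n v) := by
  simp only [show app n v = sm v.1.1 n.c0 + sm v.1.2 n.c1 + sm v.2.1 n.c2 + sm v.2.2 n.c3 from rfl,
    app_add, app_sm]
  rfl

theorem app_idM (v : V) : app idM v = v := by
  ext <;> simp [app, idM, sm, b0, b1, b2, b3]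

theorem m4_ext {m n : M4} (h : ∀ v, app m v = app n v) : m = n := by
  have key : ∀ k : M4, k = ⟨app k b0, app k b1, app k b2, app k b3⟩ := fun k => by
    cases k; simp [app, sm, b0, b1, b2, b3, Prod.ext_iff]
  rw [key m, key n, h, h, h, h]

theorem comp_assoc (m n k : M4) : comp (comp m n) k = comp m (comp n k) :=
  m4_ext fun v => by simp only [app_comp]

theorem idM_comp (m : M4) : comp idM m = m := m4_ext fun v => by rw [app_comp, app_idM]

theorem comp_idM (m : M4) : comp m idM = m := m4_ext fun v => by rw [app_comp, app_idM]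

/-- A two by two matrix by rows. -/
abbrev M2 := (F × F) × (F × F)

/-- Products of two by two matrices. -/
def mul2 (a b : M2) : M2 :=
  ((a.1.1 * b.1.1 + a.1.2 * b.2.1, a.1.1 * b.1.2 + a.1.2 * b.2.2),
    (a.2.1 * b.1.1 + a.2.2 * b.2.1, a.2.1 * b.1.2 + a.2.2 * b.2.2))

/-- The unit matrix. -/
def one2 : M2 := ((1, 0), (0, 1))
/-- Minus the unit matrix. -/
def neg2 : M2 := ((-1, 0), (0, -1))

/-- The values. -/
def fList : List F := [0, 1, 2]

/-- All matrices. -/
def allM2 : List M2 := fList.flatMap fun a => fList.flatMap fun b => fList.flatMap fun c => fList.map fun d => ((a, b), (c, d))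

/-- The determinant. -/
def detM2 (a : M2) : F := a.1.1 * a.2.2 - a.1.2 * a.2.1

/-- The special linear group. -/
def slList : List M2 := allM2.filter fun a => decide (detM2 a = 1)

/-- The quaternion group. -/
def qList : List M2 := slList.filter fun a => decide (mul2 (mul2 a a) (mul2 a a) = one2)

/-- A map preserving or exchanging the planes. -/
def blk (a b : M2) (s : Bool) : M4 :=
  cond s ⟨((0, 0), (b.1.1, b.2.1)), ((0, 0), (b.1.2, b.2.2)), ((a.1.1, a.2.1), (0, 0)), ((a.1.2, a.2.2), (0, 0))⟩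
    ⟨((a.1.1, a.2.1), (0, 0)), ((a.1.2, a.2.2), (0, 0)), ((0, 0), (b.1.1, b.2.1)), ((0, 0), (b.1.2, b.2.2))⟩

/-- The reference involution. -/
def vRef : M4 := blk one2 neg2 false
/-- The exchange of the planes. -/
def swapM : M4 := blk one2 one2 true
/-- The first quaternion generator. -/
def qi : M2 := ((0, -1), (1, 0))
/-- The second quaternion generator. -/
def qj : M2 := ((1, 1), (1, -1))

/-- The extraspecial group `R`. -/
def rList : List M4 :=
  qList.flatMap fun q => [false, true].flatMap fun s => [blk q q s, blk q (mul2 neg2 q) s]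

/-- Generators of `R`. -/
def rGens : List M4 := [vRef, swapM, blk qi qi false, blk qj qj false]

/-- Symplectic maps. -/
def Symp (m : M4) : Prop :=
  om m.c0 m.c1 = 1 ∧ om m.c0 m.c2 = 0 ∧ om m.c0 m.c3 = 0 ∧ om m.c1 m.c2 = 0 ∧ om m.c1 m.c3 = 0 ∧ om m.c2 m.c3 = 1

/-- Maps normalising `R`. -/
def NormR (m : M4) : Prop := ∀ r ∈ rGens, ∃ r' ∈ rList, comp m r = comp r' m

instance : DecidablePred Symp := fun m => by unfold Symp; infer_instance
instance : DecidablePred NormR := fun m => by unfold NormR; infer_instance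

/-- The stabiliser of the reference involution. -/
def stabList : List M4 :=
  slList.flatMap fun a => (slList.filter fun b => decide (NormR (blk a b false))).map fun b => blk a b false

/-- Representatives of the cosets of the stabiliser of `vRef`, with inverses. -/
def cosetReps : List (M4 × M4) := [
  (⟨((0, 0), (0, 2)), ((0, 0), (1, 0)), ((0, 2), (0, 0)), ((1, 0), (0, 0))⟩,
   ⟨((0, 0), (0, 1)), ((0, 0), (2, 0)), ((0, 1), (0, 0)), ((2, 0), (0, 0))⟩),
  (⟨((0, 2), (0, 0)), ((1, 0), (0, 0)), ((0, 0), (0, 2)), ((0, 0), (1, 0))⟩,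
   ⟨((0, 1), (0, 0)), ((2, 0), (0, 0)), ((0, 0), (0, 1)), ((0, 0), (2, 0))⟩),
  (⟨((0, 1), (0, 1)), ((1, 0), (1, 0)), ((0, 1), (0, 2)), ((1, 0), (2, 0))⟩,
   ⟨((0, 2), (0, 2)), ((2, 0), (2, 0)), ((0, 2), (0, 1)), ((2, 0), (1, 0))⟩),
  (⟨((0, 1), (0, 2)), ((1, 0), (2, 0)), ((0, 1), (0, 1)), ((1, 0), (1, 0))⟩,
   ⟨((0, 2), (0, 2)), ((2, 0), (2, 0)), ((0, 1), (0, 2)), ((1, 0), (2, 0))⟩),
  (⟨((0, 1), (1, 0)), ((1, 0), (0, 2)), ((0, 1), (2, 0)), ((1, 0), (0, 1))⟩,
   ⟨((0, 2), (0, 2)), ((2, 0), (2, 0)), ((2, 0), (1, 0)), ((0, 1), (0, 2))⟩),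
  (⟨((0, 1), (1, 2)), ((1, 0), (1, 1)), ((0, 1), (2, 1)), ((1, 0), (2, 2))⟩,
   ⟨((0, 2), (0, 2)), ((2, 0), (2, 0)), ((1, 1), (2, 2)), ((2, 1), (1, 2))⟩),
  (⟨((0, 1), (1, 1)), ((1, 0), (2, 1)), ((0, 1), (2, 2)), ((1, 0), (1, 2))⟩,
   ⟨((0, 2), (0, 2)), ((2, 0), (2, 0)), ((1, 2), (2, 1)), ((1, 1), (2, 2))⟩),
  (⟨((0, 1), (2, 0)), ((1, 0), (0, 1)), ((0, 1), (1, 0)), ((1, 0), (0, 2))⟩,
   ⟨((0, 2), (0, 2)), ((2, 0), (2, 0)), ((1, 0), (2, 0)), ((0, 2), (0, 1))⟩),
  (⟨((0, 1), (2, 2)), ((1, 0), (1, 2)), ((0, 1), (1, 1)), ((1, 0), (2, 1))⟩,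
   ⟨((0, 2), (0, 2)), ((2, 0), (2, 0)), ((2, 1), (1, 2)), ((2, 2), (1, 1))⟩),
  (⟨((0, 1), (2, 1)), ((1, 0), (2, 2)), ((0, 1), (1, 2)), ((1, 0), (1, 1))⟩,
   ⟨((0, 2), (0, 2)), ((2, 0), (2, 0)), ((2, 2), (1, 1)), ((1, 2), (2, 1))⟩)]

/-- The normaliser of `R`. -/
def cbList : List M4 := cosetReps.flatMap fun p => stabList.map fun s => comp p.1 s

theorem length_cbList : cbList.length = 1920 := by decide +kernel

theorem cosetReps_spec : ∀ p ∈ cosetReps, comp p.1 p.2 = idM ∧ comp p.2 p.1 = idM ∧ Symp p.2 ∧ NormR p.2 := by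
  decide +kernel

theorem rList_cases : ∀ r ∈ rList, r = idM ∨ r = blk neg2 neg2 false ∨ comp r r ≠ idM ∨
    ∃ p ∈ cosetReps, comp r p.1 = comp p.1 vRef := by decide +kernel

theorem rList_closed : ∀ r ∈ rList, ∀ r' ∈ rList, comp r r' ∈ rList := by decide +kernel

theorem symp_app {m : M4} (h : Symp m) (u v : V) : om (app m u) (app m v) = om u v := by
  obtain ⟨h01, h02, h03, h12, h13, h23⟩ := h
  simp only [om, det2] at h01 h02 h03 h12 h13 h23
  simp only [app, sm, om, det2, Prod.fst_add, Prod.snd_add]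
  linear_combination (u.1.1 * v.1.2 - u.1.2 * v.1.1) * h01 + (u.1.1 * v.2.1 - u.2.1 * v.1.1) * h02 +
    (u.1.1 * v.2.2 - u.2.2 * v.1.1) * h03 + (u.1.2 * v.2.1 - u.2.1 * v.1.2) * h12 +
    (u.1.2 * v.2.2 - u.2.2 * v.1.2) * h13 + (u.2.1 * v.2.2 - u.2.2 * v.2.1) * h23

theorem symp_comp {m n : M4} (hm : Symp m) (hn : Symp n) : Symp (comp m n) := by
  simp only [Symp, comp, symp_app hm]
  exact hn

theorem neg_central : ∀ m : M4, comp m (blk neg2 neg2 false) = comp (blk neg2 neg2 false) m := fun m => by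
  obtain ⟨c0, c1, c2, c3⟩ := m
  simp [comp, app, sm, blk, neg2]

theorem comp_left_cancel {m m' a b : M4} (h : comp m' m = idM) (e : comp m a = comp m b) : a = b := by
  have := congrArg (comp m') e
  rwa [← comp_assoc, ← comp_assoc, h, idM_comp, idM_comp] at this

theorem stab_split : ∀ a ∈ allM2, ∀ b ∈ allM2, Symp (blk a b false) → a ∈ slList ∧ b ∈ slList := by
  decide +kernel

theorem diag_of_commute_vRef {m : M4} (h : comp m vRef = comp vRef m) : ∃ a ∈ allM2, ∃ b ∈ allM2, m = blk a b false := by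
  obtain ⟨⟨⟨p, q⟩, r, s⟩, ⟨⟨p', q'⟩, r', s'⟩, ⟨⟨p'', q''⟩, r'', s''⟩, ⟨⟨p₃, q₃⟩, r₃, s₃⟩⟩ := m
  have hz : ∀ x : F, x = -x → x = 0 := by decide
  simp [comp, app, sm, vRef, blk, one2, neg2] at h
  obtain ⟨⟨hr, hs⟩, ⟨hr', hs'⟩, ⟨hp'', hq''⟩, hp₃, hq₃⟩ := h
  refine ⟨((p, p'), (q, q')), ?_, ((r'', r₃), (s'', s₃)), ?_, ?_⟩
  · revert p p' q q'; decide
  · revert r'' r₃ s'' s₃; decide
  · simp only [blk, cond_false, M4.mk.injEq, Prod.mk.injEq, and_true, true_and]
    exact ⟨⟨hz _ hr, hz _ hs⟩, ⟨hz _ hr', hz _ hs'⟩, ⟨hz _ hp''.symm, hz _ hq''.symm⟩, hz _ hp₃.symm, hz _ hq₃.symm⟩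

/-- A symplectic map normalising `R` lies in the list. -/
theorem mem_cbList {m : M4} {m' : M4} (hm : Symp m) (hn : NormR m) (h1 : comp m' m = idM) (h2 : comp m m' = idM) :
    m ∈ cbList := by
  obtain ⟨r, hr, hre⟩ := hn vRef (List.mem_cons_self ..)
  have hback : r = comp (comp m vRef) m' := by rw [hre, comp_assoc, h2, comp_idM]
  rcases rList_cases r hr with e | e | e | ⟨p, hp, e⟩
  · exfalso
    rw [e, idM_comp] at hre
    exact (show vRef ≠ idM by decide +kernel) (comp_left_cancel h1 (hre.trans (comp_idM m).symm))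
  · exfalso
    rw [e, ← neg_central] at hre
    exact (show vRef ≠ blk neg2 neg2 false by decide +kernel) (comp_left_cancel h1 hre)
  · exfalso
    refine e ?_
    calc comp r r = comp (comp m vRef) (comp (comp m' m) (comp vRef m')) := by rw [hback]; simp only [comp_assoc]
      _ = comp (comp m (comp vRef vRef)) m' := by rw [h1, idM_comp]; simp only [comp_assoc]
      _ = idM := by rw [show comp vRef vRef = idM by decide +kernel, comp_idM, h2]
  obtain ⟨hp1, hp2, hp3, hp4⟩ := cosetReps_spec p hp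
  set k := comp p.2 m with hk
  have hcomm : comp k vRef = comp vRef k := by
    calc comp k vRef = comp p.2 (comp (comp r p.1) (comp p.2 m)) := by
          rw [hk, comp_assoc, hre, comp_assoc r p.1, ← comp_assoc p.1 p.2, hp1, idM_comp]
      _ = comp (comp p.2 p.1) (comp vRef k) := by rw [e, ← hk]; simp only [comp_assoc]
      _ = _ := by rw [hp2, idM_comp]
  obtain ⟨a, ha, b, hb, hab⟩ := diag_of_commute_vRef hcomm
  obtain ⟨hasl, hbsl⟩ := stab_split a ha b hb (hab ▸ symp_comp hp3 hm)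
  have hnk : NormR k := by
    intro g hg
    obtain ⟨r1, hr1, e1⟩ := hn g hg
    have hall : ∀ p ∈ cosetReps, ∀ r ∈ rList, comp p.2 (comp r p.1) ∈ rList := by decide +kernel
    refine ⟨comp p.2 (comp r1 p.1), hall p hp r1 hr1, ?_⟩
    calc comp k g = comp p.2 (comp r1 m) := by rw [hk, comp_assoc, e1]
      _ = _ := by rw [hk, comp_assoc, comp_assoc, ← comp_assoc p.1 p.2, hp1, idM_comp]
  refine List.mem_flatMap.2 ⟨p, hp, List.mem_map.2 ⟨k, ?_, ?_⟩⟩
  · rw [hab] at hnk ⊢
    exact List.mem_flatMap.2 ⟨a, hasl, List.mem_map.2 ⟨b, List.mem_filter.2 ⟨hbsl, decide_eq_true hnk⟩, rfl⟩⟩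
  · rw [hk, ← comp_assoc, hp1, idM_comp]

end Cfsg.Agent.CoTwoThree
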