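/-
A group with a three-centraliser of the shape of the second Conway group: coordinates.

* `Cfg` : `Q` of order `3⁵` normal in `C(z)`, coordinates, the image `2^{1+4}.A5`, a Sylow three-subgroup in `C(z)`,
  `z` fused to another element of that Sylow subgroup;
* `Cfg.IsPt` : the non-identity elements of the conjugates of `⟨z⟩`.
-/
import Cfsg.Agent.Lib.CoTwoThree.Model

set_option autoImplicit false

namespace Cfsg.Agent.CoTwoThree

/-- The configuration. -/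
structure Cfg (G : Type*) [Group G] where
  /-- the central element -/
  z : G
  /-- the extraspecial subgroup -/
  Q : Subgroup G
  /-- the action of the centraliser of `z` -/
  φ : G → M4
  /-- coordinates modulo `⟨z⟩` -/
  vec : G → V
  z_ord : orderOf z = 3
  z_mem : z ∈ Q
  Q_le : ∀ q ∈ Q, Commute q z
  cube : ∀ q ∈ Q, q ^ 3 = 1
  vec_mul : ∀ i ∈ Q, ∀ j ∈ Q, vec (i * j) = vec i + vec j
  vec_surj : ∀ v : V, ∃ q ∈ Q, vec q = v
  vec_ker : ∀ q ∈ Q, (vec q = 0 ↔ q ∈ Subgroup.zpowers z)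
  comm : ∀ i ∈ Q, ∀ j ∈ Q, i * j * i⁻¹ * j⁻¹ = z ^ (om (vec i) (vec j)).val
  φ_mul : ∀ g h, Commute g z → Commute h z → φ (g * h) = comp (φ g) (φ h)
  φ_ker : ∀ h, Commute h z → (φ h = idM ↔ h ∈ Q)
  φ_mem : ∀ h, Commute h z → φ h ∈ cbList
  φ_surj : ∀ m ∈ cbList, ∃ h, Commute h z ∧ φ h = m
  conj_mem : ∀ h, Commute h z → ∀ q ∈ Q, h * q * h⁻¹ ∈ Q
  vec_conj : ∀ h, Commute h z → ∀ q ∈ Q, vec (h * q * h⁻¹) = app (φ h) (vec q)
  /-- a Sylow subgroup inside the centraliser -/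
  S : Sylow 3 G
  S_le : ∀ s ∈ (S : Subgroup G), Commute s z
  nwc : ∃ g : G, g * z * g⁻¹ ∈ (S : Subgroup G) ∧ g * z * g⁻¹ ∉ Subgroup.zpowers z

namespace Cfg

variable {G : Type*} [Group G] (C : Cfg G)

/-- The non-identity elements of the conjugates of `⟨z⟩`. -/
def IsPt (x : G) : Prop := ∃ g : G, x = g * C.z * g⁻¹ ∨ x = (g * C.z * g⁻¹)⁻¹

theorem z_pow : C.z ^ 3 = 1 := C.z_ord ▸ pow_orderOf_eq_one C.z

theorem z_ne : C.z ≠ 1 := fun e => by simpa [e] using C.z_ord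

theorem isPt_z : C.IsPt C.z := ⟨1, Or.inl (by group)⟩

variable {C}

theorem IsPt.inv {x : G} (h : C.IsPt x) : C.IsPt x⁻¹ := by
  obtain ⟨g, h | h⟩ := h
  exacts [⟨g, Or.inr (by rw [h])⟩, ⟨g, Or.inl (by rw [h, inv_inv])⟩]

theorem IsPt.conj {x : G} (h : C.IsPt x) (c : G) : C.IsPt (c * x * c⁻¹) := by
  obtain ⟨g, h | h⟩ := h
  exacts [⟨c * g, Or.inl (by rw [h]; group)⟩, ⟨c * g, Or.inr (by rw [h]; group)⟩]

theorem IsPt.ne_one {x : G} (h : C.IsPt x) : x ≠ 1 := by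
  obtain ⟨g, rfl | rfl⟩ := h
  · exact fun e => C.z_ne (conj_eq_one_iff.1 e)
  · exact fun e => C.z_ne (conj_eq_one_iff.1 (inv_eq_one.1 e))

variable (C)

theorem φ_one : C.φ 1 = idM := (C.φ_ker 1 (Commute.one_left _)).2 (one_mem _)

theorem φ_of_mem {q : G} (hq : q ∈ C.Q) : C.φ q = idM := (C.φ_ker q (C.Q_le q hq)).2 hq

theorem φ_inv {h : G} (hh : Commute h C.z) : comp (C.φ h⁻¹) (C.φ h) = idM := by
  rw [← C.φ_mul _ _ hh.inv_left hh, inv_mul_cancel, C.φ_one]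

theorem vec_one : C.vec 1 = 0 := (C.vec_ker 1 (one_mem _)).2 (one_mem _)

theorem vec_inv {q : G} (hq : q ∈ C.Q) : C.vec q⁻¹ = -C.vec q :=
  eq_neg_of_add_eq_zero_left (by rw [← C.vec_mul _ (inv_mem hq) _ hq, inv_mul_cancel, C.vec_one])

theorem vec_z : C.vec C.z = 0 := (C.vec_ker _ C.z_mem).2 (Subgroup.mem_zpowers _)

end Cfg

end Cfsg.Agent.CoTwoThree
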