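/-
The elementary abelian subgroup of order `3⁴` of the configuration: the interface.

* `V4`, `sgc` : coordinates and the quadric of minus type whose points are the conjugates of `z`;
* `JData` : `J` with its coordinates and its automiser.
-/
import Cfsg.Agent.Lib.CoTwoThree.Cfg

set_option autoImplicit false

namespace Cfsg.Agent.CoTwoThree

/-- Coordinates on `J`. -/
abbrev V4 := F × F × F × F

/-- The singular vectors of `i j - k² - l²`. -/
def sgc (v : V4) : Prop := v ≠ 0 ∧ v.1 * v.2.1 = v.2.2.1 * v.2.2.1 + v.2.2.2 * v.2.2.2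

instance : DecidablePred sgc := fun v => by unfold sgc; infer_instance

/-- The elementary abelian subgroup of order `81`. -/
structure JData {G : Type*} [Group G] (C : Cfg G) where
  /-- the subgroup -/
  J : Subgroup G
  /-- the coordinates -/
  κ : V4 → G
  κ_mem : ∀ v, κ v ∈ J
  κ_surj : ∀ x ∈ J, ∃ v, κ v = x
  κ_add : ∀ u v, κ (u + v) = κ u * κ v
  κ_inj : Function.Injective κ
  κ_z : κ (1, 0, 0, 0) = C.z
  mem_Q : ∀ v, (κ v ∈ C.Q ↔ v.2.1 = 0)
  le_S : J ≤ (C.S : Subgroup G)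
  pt : ∀ v, (C.IsPt (κ v) ↔ sgc v)
  pts_mem : ∀ x ∈ (C.S : Subgroup G), C.IsPt x → x ∈ J
  weakly : ∀ g : G, (∀ x ∈ J, g * x * g⁻¹ ∈ (C.S : Subgroup G)) → g ∈ Subgroup.normalizer (J : Set G)
  cent : ∀ g : G, (∀ x ∈ J, g * x = x * g) → g ∈ J
  auto : ∀ M : V4 ≃+ V4, (∀ v, sgc v → sgc (M v)) →
    ∃ g ∈ Subgroup.normalizer (J : Set G), ∀ v, g * κ v * g⁻¹ = κ (M v)

end Cfsg.Agent.CoTwoThree
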