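/-
Finite checks for the signalizers of the subgroup `J`.

* `autList` : isometries of the quadric carrying `z` to each of its twenty singular vectors;
* `functional_zero`, `hyperplane_identity` : every hyperplane meets the quadric;
* `plane_check` : the stabiliser of an isotropic plane has exponent three.
-/
import Cfsg.Agent.Lib.CoTwoThree.JData

set_option autoImplicit false
set_option maxRecDepth 100000
set_option linter.style.longLine false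

namespace Cfsg.Agent.CoTwoThree

/-- The linear map with given images of the basis. -/
def lin4 (M : V4 × V4 × V4 × V4) (v : V4) : V4 :=
  (v.1 * M.1.1 + v.2.1 * M.2.1.1 + v.2.2.1 * M.2.2.1.1 + v.2.2.2 * M.2.2.2.1,
    v.1 * M.1.2.1 + v.2.1 * M.2.1.2.1 + v.2.2.1 * M.2.2.1.2.1 + v.2.2.2 * M.2.2.2.2.1,
    v.1 * M.1.2.2.1 + v.2.1 * M.2.1.2.2.1 + v.2.2.1 * M.2.2.1.2.2.1 + v.2.2.2 * M.2.2.2.2.2.1,
    v.1 * M.1.2.2.2 + v.2.1 * M.2.1.2.2.2 + v.2.2.1 * M.2.2.1.2.2.2 + v.2.2.2 * M.2.2.2.2.2.2)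

theorem lin4_add (M : V4 × V4 × V4 × V4) (u v : V4) : lin4 M (u + v) = lin4 M u + lin4 M v := by
  simp only [lin4, Prod.mk_add_mk, Prod.fst_add, Prod.snd_add]
  refine Prod.ext ?_ (Prod.ext ?_ (Prod.ext ?_ ?_)) <;> ring

/-- Isometries carrying the first basis vector to each singular vector, with their inverses. -/
def autList : List ((V4 × V4 × V4 × V4) × (V4 × V4 × V4 × V4)) := [
  (((0, 1, 0, 0), (1, 0, 0, 0), (0, 0, 0, 1), (0, 0, 1, 0)),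
   ((0, 1, 0, 0), (1, 0, 0, 0), (0, 0, 0, 1), (0, 0, 1, 0))),
  (((0, 2, 0, 0), (2, 0, 0, 0), (0, 0, 0, 1), (0, 0, 1, 0)),
   ((0, 2, 0, 0), (2, 0, 0, 0), (0, 0, 0, 1), (0, 0, 1, 0))),
  (((1, 0, 0, 0), (0, 1, 0, 0), (0, 0, 0, 1), (0, 0, 1, 0)),
   ((1, 0, 0, 0), (0, 1, 0, 0), (0, 0, 0, 1), (0, 0, 1, 0))),
  (((1, 1, 0, 1), (0, 1, 0, 0), (0, 0, 1, 0), (0, 1, 0, 2)),
   ((1, 1, 0, 1), (0, 1, 0, 0), (0, 0, 1, 0), (0, 1, 0, 2))),
  (((1, 1, 0, 2), (0, 1, 0, 0), (0, 0, 1, 0), (0, 1, 0, 1)),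
   ((1, 1, 0, 1), (0, 1, 0, 0), (0, 0, 1, 0), (0, 2, 0, 1))),
  (((1, 1, 1, 0), (0, 1, 0, 0), (0, 0, 0, 1), (0, 1, 2, 0)),
   ((1, 1, 0, 1), (0, 1, 0, 0), (0, 1, 0, 2), (0, 0, 1, 0))),
  (((1, 1, 2, 0), (0, 1, 0, 0), (0, 0, 0, 1), (0, 1, 1, 0)),
   ((1, 1, 0, 1), (0, 1, 0, 0), (0, 2, 0, 1), (0, 0, 1, 0))),
  (((1, 2, 1, 1), (0, 1, 0, 0), (0, 1, 0, 2), (0, 1, 2, 0)),
   ((1, 2, 1, 1), (0, 1, 0, 0), (0, 1, 0, 2), (0, 1, 2, 0))),
  (((1, 2, 1, 2), (0, 1, 0, 0), (0, 1, 0, 1), (0, 1, 2, 0)),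
   ((1, 2, 1, 1), (0, 1, 0, 0), (0, 1, 0, 2), (0, 2, 1, 0))),
  (((1, 2, 2, 1), (0, 1, 0, 0), (0, 1, 0, 2), (0, 1, 1, 0)),
   ((1, 2, 1, 1), (0, 1, 0, 0), (0, 2, 0, 1), (0, 1, 2, 0))),
  (((1, 2, 2, 2), (0, 1, 0, 0), (0, 1, 0, 1), (0, 1, 1, 0)),
   ((1, 2, 1, 1), (0, 1, 0, 0), (0, 2, 0, 1), (0, 2, 1, 0))),
  (((2, 0, 0, 0), (0, 2, 0, 0), (0, 0, 0, 1), (0, 0, 1, 0)),
   ((2, 0, 0, 0), (0, 2, 0, 0), (0, 0, 0, 1), (0, 0, 1, 0))),
  (((2, 1, 1, 1), (0, 2, 0, 0), (0, 1, 0, 1), (0, 1, 1, 0)),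
   ((2, 1, 1, 1), (0, 2, 0, 0), (0, 1, 0, 1), (0, 1, 1, 0))),
  (((2, 1, 1, 2), (0, 2, 0, 0), (0, 1, 0, 2), (0, 1, 1, 0)),
   ((2, 1, 1, 1), (0, 2, 0, 0), (0, 1, 0, 1), (0, 2, 2, 0))),
  (((2, 1, 2, 1), (0, 2, 0, 0), (0, 1, 0, 1), (0, 1, 2, 0)),
   ((2, 1, 1, 1), (0, 2, 0, 0), (0, 2, 0, 2), (0, 1, 1, 0))),
  (((2, 1, 2, 2), (0, 2, 0, 0), (0, 1, 0, 2), (0, 1, 2, 0)),
   ((2, 1, 1, 1), (0, 2, 0, 0), (0, 2, 0, 2), (0, 2, 2, 0))),
  (((2, 2, 0, 1), (0, 2, 0, 0), (0, 0, 1, 0), (0, 1, 0, 1)),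
   ((2, 2, 0, 1), (0, 2, 0, 0), (0, 0, 1, 0), (0, 1, 0, 1))),
  (((2, 2, 0, 2), (0, 2, 0, 0), (0, 0, 1, 0), (0, 1, 0, 2)),
   ((2, 2, 0, 1), (0, 2, 0, 0), (0, 0, 1, 0), (0, 2, 0, 2))),
  (((2, 2, 1, 0), (0, 2, 0, 0), (0, 0, 0, 1), (0, 1, 1, 0)),
   ((2, 2, 0, 1), (0, 2, 0, 0), (0, 1, 0, 1), (0, 0, 1, 0))),
  (((2, 2, 2, 0), (0, 2, 0, 0), (0, 0, 0, 1), (0, 1, 2, 0)),
   ((2, 2, 0, 1), (0, 2, 0, 0), (0, 2, 0, 2), (0, 0, 1, 0)))]

theorem autList_spec : ∀ p ∈ autList, ∀ v : V4,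
    lin4 p.2 (lin4 p.1 v) = v ∧ lin4 p.1 (lin4 p.2 v) = v ∧ (sgc v → sgc (lin4 p.1 v)) := by decide +kernel

theorem autList_cover : ∀ v : V4, sgc v → ∃ p ∈ autList, lin4 p.1 (1, 0, 0, 0) = v := by decide +kernel

/-- Every functional vanishes on a singular vector. -/
theorem functional_zero : ∀ c₂ c₃ c₄ : F, ∃ v : V4, sgc v ∧ v.1 + v.2.1 * c₂ + v.2.2.1 * c₃ + v.2.2.2 * c₄ = 0 := by
  decide +kernel

theorem sgc_first : sgc ((1, 0, 0, 0) : V4) := by decide +kernel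

theorem mem_allV : ∀ v : V, v ∈ fList.flatMap (fun a => fList.flatMap fun b => fList.flatMap fun c =>
    fList.map fun d => ((a, b), (c, d))) := by decide +kernel

/-- The fixed vectors. -/
def fixed (m : M4) : List V :=
  (fList.flatMap (fun a => fList.flatMap fun b => fList.flatMap fun c => fList.map fun d => ((a, b), (c, d)))).filter
    fun v => decide (app m v = v)

/-- Every non-zero vector is carried to the first basis vector. -/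
theorem carry_check : ((fixed idM).all fun u => decide (u = 0) || cbList.any fun p => decide (app p u = b0)) = true := by
  decide +kernel

/-- The stabiliser of an isotropic plane has exponent three. -/
theorem plane_check : ((cbList.filter fun m => decide (m.c0 = b0)).all fun m => decide (comp m (comp m m) = idM) ||
    (fixed m).all fun w => !decide (om b0 w = 0) || decide (w = 0) || decide (w = b0) || decide (w = -b0)) = true := by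
  decide +kernel

theorem mem_fixed {m : M4} {v : V} (h : app m v = v) : v ∈ fixed m :=
  List.mem_filter.2 ⟨mem_allV v, decide_eq_true h⟩

theorem app_zero (m : M4) : app m 0 = 0 := by
  have h := app_add m 0 0
  rw [add_zero] at h
  exact left_eq_add.1 h

theorem app_neg (m : M4) (v : V) : app m (-v) = -app m v :=
  eq_neg_of_add_eq_zero_left (by rw [← app_add, neg_add_cancel, app_zero])

theorem app_b0 (m : M4) : app m b0 = m.c0 := by simp [app, sm, b0, Prod.ext_iff]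

theorem hyperplane_identity : ∀ (c₂ c₃ c₄ : F) (v : V4), v.1 + v.2.1 * c₂ + v.2.2.1 * c₃ + v.2.2.2 * c₄ = 0 →
    v = v.2.1.val • (((0, 1, 0, 0) : V4) - c₂.val • (1, 0, 0, 0)) +
        (v.2.2.1.val • (((0, 0, 1, 0) : V4) - c₃.val • (1, 0, 0, 0)) +
          v.2.2.2.val • (((0, 0, 0, 1) : V4) - c₄.val • (1, 0, 0, 0))) := by decide +kernel

end Cfsg.Agent.CoTwoThree
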