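/-
Signalizers of the elementary abelian subgroup `J`: it normalises no non-trivial subgroup of order prime to three.

* `JData.hyperplane_point` : a hyperplane of `J` contains a point;
* `JData.exists_norm_point` : every point of `J` is the image of `z` under an element of the normaliser;
* `JData.eq_bot_of_cent`, `JData.eq_bot_of_invariant` : the invariant subgroups of order prime to three are trivial.
-/
import Cfsg.Agent.Lib.CoTwoThree.JChecks
import Cfsg.Agent.Lib.Signalizer.PAction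

set_option autoImplicit false
set_option maxRecDepth 100000
set_option linter.style.longLine false

namespace Cfsg.Agent.CoTwoThree

namespace Cfg

variable {G : Type*} [Group G] (C : Cfg G)

/-- An element fixing an isotropic plane pointwise has its cube in `Q`. -/
theorem cube_of_fix {k : G} (hk : Commute k C.z) {q r : G} (hq : q ∈ C.Q) (hr : r ∈ C.Q) (hqr : Commute q r)
    (fq : app (C.φ k) (C.vec q) = C.vec q) (fr : app (C.φ k) (C.vec r) = C.vec r) (h0 : C.vec q ≠ 0)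
    (h1 : C.vec r ≠ 0) (h2 : C.vec r ≠ C.vec q) (h3 : C.vec r ≠ -C.vec q) :
    comp (C.φ k) (comp (C.φ k) (C.φ k)) = idM := by
  have hc := List.all_eq_true.1 carry_check (C.vec q) (mem_fixed (app_idM _))
  simp only [Bool.or_eq_true, decide_eq_true_eq, List.any_eq_true, h0, false_or] at hc
  obtain ⟨p, hp, hpu⟩ := hc
  obtain ⟨h, hh, rfl⟩ := C.φ_surj p hp
  set m := comp (comp (C.φ h) (C.φ k)) (C.φ h⁻¹) with hm
  have hinv : comp (C.φ h⁻¹) (C.φ h) = idM := C.φ_inv hh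
  have hfix : ∀ v, app (C.φ k) v = v → app m (app (C.φ h) v) = app (C.φ h) v := fun v hv => by
    rw [hm, app_comp, app_comp, ← app_comp (C.φ h⁻¹), hinv, app_idM, hv]
  have hm0 : m ∈ cbList := by
    rw [hm, ← C.φ_mul _ _ hh hk, ← C.φ_mul _ _ (hh.mul_left hk) hh.inv_left]
    exact C.φ_mem _ ((hh.mul_left hk).mul_left hh.inv_left)
  have hmc : m.c0 = b0 := by
    rw [← app_b0 m, ← hpu]; exact hfix _ fq
  set w := app (C.φ h) (C.vec r) with hw
  have hinj : ∀ v v', app (C.φ h) v = app (C.φ h) v' → v = v' := fun v v' e => by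
    have := congrArg (app (C.φ h⁻¹)) e
    rwa [← app_comp, ← app_comp, hinv, app_idM, app_idM] at this
  have hom : om b0 w = 0 := by
    have hq' := C.conj_mem h hh q hq
    have hr' := C.conj_mem h hh r hr
    have hco : Commute (h * q * h⁻¹) (h * r * h⁻¹) := (Commute.conj_iff h).2 hqr
    have e := C.comm _ hq' _ hr'
    rw [C.vec_conj h hh q hq, C.vec_conj h hh r hr, hpu, ← hw, hco.eq, mul_inv_cancel_right, mul_inv_cancel] at e
    have hd : orderOf C.z ∣ (om b0 w).val := orderOf_dvd_of_pow_eq_one e.symm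
    rw [C.z_ord] at hd
    have hlt := ZMod.val_lt (om b0 w)
    exact (ZMod.val_eq_zero _).1 (by omega)
  have hk3 := List.all_eq_true.1 plane_check m (List.mem_filter.2 ⟨hm0, decide_eq_true hmc⟩)
  simp only [Bool.or_eq_true, decide_eq_true_eq] at hk3
  rcases hk3 with hk3 | hk3
  · refine m4_ext fun v => hinj _ _ ?_
    have e := congrArg (fun n => app n (app (C.φ h) v)) hk3
    simp only [hm, app_comp, app_idM] at e
    simp only [app_comp, app_idM]
    simpa only [← app_comp (C.φ h⁻¹), hinv, app_idM] using e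
  · exfalso
    have := List.all_eq_true.1 hk3 w (mem_fixed (hfix _ fr))
    simp only [Bool.or_eq_true, Bool.not_eq_true', decide_eq_false_iff_not, decide_eq_true_eq, hom,
      not_true_eq_false, false_or] at this
    rcases this with (e | e) | e
    · exact h1 (hinj _ _ (e.trans (app_zero _).symm))
    · exact h2 (hinj _ _ (e.trans hpu.symm))
    · exact h3 (hinj _ _ (by rw [app_neg, hpu]; exact e))

end Cfg

namespace JData

variable {G : Type*} [Group G] {C : Cfg G} (D : JData C)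

theorem κ_zero : D.κ 0 = 1 := by
  have h := D.κ_add 0 0
  rw [add_zero] at h
  exact mul_eq_left.1 h.symm

theorem κ_neg (v : V4) : D.κ (-v) = (D.κ v)⁻¹ :=
  eq_inv_of_mul_eq_one_left (by rw [← D.κ_add, neg_add_cancel, D.κ_zero])

theorem κ_comm (u v : V4) : Commute (D.κ u) (D.κ v) := by
  show _ = _
  rw [← D.κ_add, ← D.κ_add, add_comm]

theorem κ_nsmul (v : V4) (n : ℕ) : D.κ (n • v) = D.κ v ^ n := by
  induction n with
  | zero => rw [zero_smul, D.κ_zero, pow_zero]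
  | succ n ih => rw [succ_nsmul, D.κ_add, ih, pow_succ]

theorem isElementaryAbelian : Cfsg.IsElementaryAbelian 3 D.J := by
  refine ⟨⟨⟨fun a b => Subtype.ext ?_⟩⟩, fun a ha => ?_⟩
  · obtain ⟨u, hu⟩ := D.κ_surj a a.2
    obtain ⟨v, hv⟩ := D.κ_surj b b.2
    show (a : G) * b = b * a
    rw [← hu, ← hv]
    exact D.κ_comm u v
  · obtain ⟨v, rfl⟩ := D.κ_surj a ha
    rw [← D.κ_nsmul, show (3 : ℕ) • v = 0 from (by decide +kernel : ∀ v : V4, (3 : ℕ) • v = 0) v, D.κ_zero]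

theorem z_mem_J : C.z ∈ D.J := D.κ_z ▸ D.κ_mem _

theorem ne_bot : D.J ≠ ⊥ := fun e => C.z_ne (by simpa [e] using D.z_mem_J)

/-- A hyperplane of `J` contains a point. -/
theorem hyperplane_point [Finite G] {H : Subgroup G} (hHJ : H ≤ D.J) (hi : H.relIndex D.J = 3) :
    ∃ x ∈ H, C.IsPt x := by
  classical
  have : Fact (Nat.Prime 3) := ⟨Nat.prime_three⟩
  by_cases hz : C.z ∈ H
  · exact ⟨C.z, hz, C.isPt_z⟩
  have hc : IsMulCommutative D.J := D.isElementaryAbelian.1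
  set H' := H.subgroupOf D.J with hH'
  have : H'.Normal := ⟨fun x hx g => by
    have : g * x * g⁻¹ = x := by rw [hc.1.1 g x, mul_inv_cancel_right]
    rwa [this]⟩
  have hcard : Nat.card (D.J ⧸ H') = 3 := by rw [← Subgroup.index_eq_card]; exact hi
  set a : D.J := ⟨C.z, D.z_mem_J⟩
  have ha : (QuotientGroup.mk a : D.J ⧸ H') ≠ 1 := by
    rw [Ne, QuotientGroup.eq_one_iff, hH', Subgroup.mem_subgroupOf]; exact hz
  have key : ∀ v : V4, ∃ c : F, D.κ (v - c.val • (1, 0, 0, 0)) ∈ H := by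
    intro v
    obtain ⟨n, hn⟩ := (mem_powers_iff_mem_zpowers.2 (mem_zpowers_of_prime_card hcard ha
      (g' := (QuotientGroup.mk ⟨D.κ v, D.κ_mem v⟩ : D.J ⧸ H'))))
    simp only at hn
    rw [← QuotientGroup.mk_pow, QuotientGroup.eq, hH', Subgroup.mem_subgroupOf] at hn
    refine ⟨(n : F), ?_⟩
    have h3 : ((n : F).val : ℕ) = n % 3 := ZMod.val_natCast 3 n
    rw [h3, sub_eq_add_neg, D.κ_add, D.κ_neg, D.κ_nsmul, D.κ_z, show (3 : ℕ) = orderOf C.z from C.z_ord.symm, pow_mod_orderOf]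
    have hcm : Commute (C.z ^ n)⁻¹ (D.κ v) :=
      ((Commute.pow_left (D.κ_z ▸ D.κ_comm (1, 0, 0, 0) v) n).inv_left)
    change (C.z ^ n)⁻¹ * D.κ v ∈ H at hn
    rwa [hcm.eq] at hn
  obtain ⟨c₂, h₂⟩ := key (0, 1, 0, 0)
  obtain ⟨c₃, h₃⟩ := key (0, 0, 1, 0)
  obtain ⟨c₄, h₄⟩ := key (0, 0, 0, 1)
  obtain ⟨v, hv, he⟩ := functional_zero c₂ c₃ c₄
  refine ⟨D.κ v, ?_, (D.pt v).2 hv⟩
  rw [hyperplane_identity c₂ c₃ c₄ v he, D.κ_add, D.κ_add, D.κ_nsmul, D.κ_nsmul, D.κ_nsmul]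
  exact mul_mem (pow_mem h₂ _) (mul_mem (pow_mem h₃ _) (pow_mem h₄ _))

/-- The points of `J` are images of `z` under the normaliser. -/
theorem exists_norm_point {x : G} (hx : x ∈ D.J) (hp : C.IsPt x) :
    ∃ g ∈ Subgroup.normalizer (D.J : Set G), g * C.z * g⁻¹ = x := by
  obtain ⟨v, rfl⟩ := D.κ_surj x hx
  obtain ⟨p, hp', he⟩ := autList_cover v ((D.pt v).1 hp)
  obtain ⟨g, hg, hgv⟩ := D.auto
    { toFun := lin4 p.1, invFun := lin4 p.2, left_inv := fun u => (autList_spec p hp' u).1,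
      right_inv := fun u => (autList_spec p hp' u).2.1, map_add' := lin4_add p.1 }
    fun u hu => (autList_spec p hp' u).2.2 hu
  refine ⟨g, hg, ?_⟩
  rw [← D.κ_z, hgv]
  show D.κ (lin4 p.1 _) = _
  rw [he]

/-- Inside the centraliser of `z`. -/
theorem eq_bot_of_cent [Finite G] (K : Subgroup G) (hK : ¬ 3 ∣ Nat.card K)
    (hJK : D.J ≤ Subgroup.normalizer (K : Set G)) (hKz : ∀ k ∈ K, Commute k C.z) : K = ⊥ := by
  refine (Subgroup.eq_bot_iff_forall _).2 fun k hk => ?_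
  have hkz := hKz k hk
  have hcop : ∀ x ∈ K, x ∈ C.Q → x = 1 := fun x hx hxQ => by
    rcases (Nat.dvd_prime Nat.prime_three).1 (orderOf_dvd_of_pow_eq_one (C.cube x hxQ)) with h | h
    · exact orderOf_eq_one_iff.1 h
    · exact absurd (h ▸ Subgroup.orderOf_dvd_natCard K hx) hK
  have hfix : ∀ w : V4, w.2.1 = 0 → app (C.φ k) (C.vec (D.κ w)) = C.vec (D.κ w) := by
    intro w hw
    have hq : D.κ w ∈ C.Q := (D.mem_Q w).2 hw
    have h1 : k * D.κ w * k⁻¹ * (D.κ w)⁻¹ ∈ K := by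
      rw [show k * D.κ w * k⁻¹ * (D.κ w)⁻¹ = k * (D.κ w * k⁻¹ * (D.κ w)⁻¹) by group]
      exact mul_mem hk ((Subgroup.mem_normalizer_iff.1 (hJK (D.κ_mem w)) _).1 (inv_mem hk))
    have h2 := hcop _ h1 (mul_mem (C.conj_mem k hkz _ hq) (inv_mem hq))
    rw [← C.vec_conj k hkz _ hq, mul_inv_eq_one.1 h2]
  set u := C.vec (D.κ (0, 0, 1, 0))
  set w := C.vec (D.κ (0, 0, 0, 1))
  have hu : D.κ (0, 0, 1, 0) ∈ C.Q := (D.mem_Q _).2 rfl
  have hw : D.κ (0, 0, 0, 1) ∈ C.Q := (D.mem_Q _).2 rfl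
  have hind : ∀ a b : F, C.vec (D.κ (0, 0, a, b)) = 0 → a = 0 ∧ b = 0 := by
    intro a b h
    obtain ⟨n, hn⟩ := Subgroup.mem_zpowers_iff.1 ((C.vec_ker _ ((D.mem_Q _).2 rfl)).1 h)
    have hz3 : C.z ^ n = C.z ^ (n % 3).toNat := by
      rw [← zpow_natCast, Int.toNat_of_nonneg (Int.emod_nonneg _ (by norm_num)),
        show (3 : ℤ) = ((orderOf C.z : ℕ) : ℤ) by rw [C.z_ord]; rfl, zpow_mod_orderOf]
    rw [hz3, ← D.κ_z, ← D.κ_nsmul] at hn
    have e := D.κ_inj hn
    simp at e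
    exact ⟨e.2.1.symm, e.2.2.symm⟩
  have h0 : u ≠ 0 ∧ w ≠ 0 ∧ w ≠ u ∧ w ≠ -u := by
    refine ⟨fun e => absurd (hind 1 0 e).1 one_ne_zero, fun e => absurd (hind 0 1 e).2 one_ne_zero,
      fun e => ?_, fun e => ?_⟩
    · refine absurd (hind (-1) 1 ?_).2 one_ne_zero
      rw [show ((0, 0, -1, 1) : V4) = -(0, 0, 1, 0) + (0, 0, 0, 1) by decide, D.κ_add,
        C.vec_mul _ (by rw [D.κ_neg]; exact inv_mem hu) _ hw, D.κ_neg, C.vec_inv hu]
      show -u + w = 0
      rw [e, neg_add_cancel]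
    · refine absurd (hind 1 1 ?_).2 one_ne_zero
      rw [show ((0, 0, 1, 1) : V4) = (0, 0, 1, 0) + (0, 0, 0, 1) by decide, D.κ_add, C.vec_mul _ hu _ hw]
      show u + w = 0
      rw [e, add_neg_cancel]
  have hm : comp (C.φ k) (comp (C.φ k) (C.φ k)) = idM :=
    C.cube_of_fix hkz hu hw (D.κ_comm _ _) (hfix _ rfl) (hfix _ rfl) h0.1 h0.2.1 h0.2.2.1 h0.2.2.2
  refine hcop k hk ?_
  have h3 : k * (k * k) ∈ C.Q := (C.φ_ker _ (hkz.mul_left (hkz.mul_left hkz))).1
    (by rw [C.φ_mul _ _ hkz (hkz.mul_left hkz), C.φ_mul _ _ hkz hkz]; exact hm)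
  obtain ⟨m, hm'⟩ := exists_pow_eq_self_of_coprime (x := k) (n := 3)
    ((Nat.prime_three.coprime_iff_not_dvd).2 fun h => hK (h.trans (Subgroup.orderOf_dvd_natCard K hk)))
  rw [← hm']
  exact pow_mem (show k ^ 3 ∈ C.Q by rw [pow_succ', pow_two]; exact h3) m

/-- A subgroup of order prime to three normalised by `J` is trivial. -/
theorem eq_bot_of_invariant [Finite G] (K : Subgroup G) (hK : ¬ 3 ∣ Nat.card K)
    (hJK : D.J ≤ Subgroup.normalizer (K : Set G)) : K = ⊥ := by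
  have : Fact (Nat.Prime 3) := ⟨Nat.prime_three⟩
  refine le_bot_iff.1 (Signalizer.le_of_hyperplanes D.isElementaryAbelian D.ne_bot ⊥ K hK hJK fun H hH hi => ?_)
  obtain ⟨x, hxH, hx⟩ := D.hyperplane_point hH hi
  obtain ⟨g, hg, hgx⟩ := D.exists_norm_point (hH hxH) hx
  set K' := (K ⊓ Subgroup.centralizer ({x} : Set G)).comap (MulAut.conj g).toMonoidHom with hK'
  have hbot : K' = ⊥ := by
    refine D.eq_bot_of_cent K' ?_ ?_ ?_
    · rw [hK', Subgroup.comap_equiv_eq_map_symm', Subgroup.card_map_of_injective (MulAut.conj g).symm.injective]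
      exact fun h => hK (h.trans (Subgroup.card_dvd_of_le inf_le_left))
    · intro j hj
      have hgj : g * j * g⁻¹ ∈ D.J := (Subgroup.mem_normalizer_iff.1 hg j).1 hj
      have hjx : Commute (g * j * g⁻¹) x := by
        obtain ⟨u, hu⟩ := D.κ_surj _ hgj
        obtain ⟨v, hv⟩ := D.κ_surj _ (hH hxH)
        rw [← hu, ← hv]; exact D.κ_comm u v
      refine Subgroup.mem_normalizer_iff.2 fun y => ?_
      simp only [hK', Subgroup.mem_comap, MulEquiv.coe_toMonoidHom, MulAut.conj_apply, Subgroup.mem_inf,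
        Subgroup.mem_centralizer_singleton_iff]
      rw [show g * (j * y * j⁻¹) * g⁻¹ = (g * j * g⁻¹) * (g * y * g⁻¹) * (g * j * g⁻¹)⁻¹ by group,
        ← Subgroup.mem_normalizer_iff.1 (hJK hgj) (g * y * g⁻¹)]
      refine and_congr_right fun _ => ?_
      show Commute (g * y * g⁻¹) x ↔ Commute ((g * j * g⁻¹) * (g * y * g⁻¹) * (g * j * g⁻¹)⁻¹) x
      refine (Commute.conj_iff (g * j * g⁻¹)).symm.trans ?_
      rw [show g * j * g⁻¹ * x * (g * j * g⁻¹)⁻¹ = x by rw [hjx.eq, mul_inv_cancel_right]]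
    · intro y hy
      have h2 : Commute (g * y * g⁻¹) (g * C.z * g⁻¹) := by
        rw [hgx]; exact Subgroup.mem_centralizer_singleton_iff.1 hy.2
      exact (Commute.conj_iff g).1 h2
  intro k hk
  have : g⁻¹ * k * g ∈ K' := by
    simp only [hK', Subgroup.mem_comap, MulEquiv.coe_toMonoidHom, MulAut.conj_apply]
    rw [show g * (g⁻¹ * k * g) * g⁻¹ = k by group]
    exact ⟨hk.1, Subgroup.mem_centralizer_singleton_iff.2 (Subgroup.mem_centralizer_iff.1 hk.2 x hxH).symm⟩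
  rw [hbot, Subgroup.mem_bot] at this
  rw [Subgroup.mem_bot]
  calc k = g * (g⁻¹ * k * g) * g⁻¹ := by group
    _ = 1 := by rw [this, mul_one, mul_inv_cancel]

end JData

end Cfsg.Agent.CoTwoThree
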