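/-
The endgame of the recognition of the second Conway group by a three-centraliser.

* `Cfg.mem_Q_of_cent`, `Cfg.center_eq_bot` : `Q` contains its centraliser, the centre is trivial;
* `JData.oddCore_eq_bot` : no non-trivial normal subgroup of odd order;
* `conclude` : from an involution centraliser 2^(1+8).Sp6(2) to the conclusion, by the recognition by an involution.
-/
import Cfsg.Agent.Lib.CoTwoThree.JSignalizer
import Cfsg.Agent.Lib.PGroup.Basic
import Cfsg.Agent.Lib.Cores.Basic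
import Cfsg.Agent.Lib.CoTwoType.Setup
import Cfsg.Prelude.Def_Spor_Conway

set_option autoImplicit false
set_option maxRecDepth 100000
set_option linter.style.longLine false

namespace Cfsg.Agent.CoTwoThree

/-- Each element of order three has a commutator with a generator of `R` of order two or four. -/
theorem three_check : (cbList.all fun m => decide (m = idM) || !decide (comp m (comp m m) = idM) ||
    rGens.any fun r =>
      !decide (comp (comp m r) (comp (comp m m) (comp r (comp r r))) = idM) &&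
        decide (comp (comp (comp (comp m r) (comp (comp m m) (comp r (comp r r))))
            (comp (comp m r) (comp (comp m m) (comp r (comp r r)))))
          (comp (comp (comp m r) (comp (comp m m) (comp r (comp r r))))
            (comp (comp m r) (comp (comp m m) (comp r (comp r r))))) = idM)) = true := by decide +kernel

theorem rGens_spec : ∀ r ∈ rGens, r ∈ cbList ∧ comp (comp r (comp r r)) r = idM := by decide +kernel

theorem sgc_second : sgc ((0, 1, 0, 0) : V4) := by decide +kernel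

namespace Cfg

variable {G : Type*} [Group G] (C : Cfg G)

theorem φ_pow_three {h : G} (hh : Commute h C.z) (e : h ^ 3 = 1) : comp (C.φ h) (comp (C.φ h) (C.φ h)) = idM := by
  rw [← C.φ_mul _ _ hh hh, ← C.φ_mul _ _ hh (hh.mul_left hh), show h * (h * h) = h ^ 3 by
    rw [pow_succ', pow_two], e, C.φ_one]

theorem φ_inv_eq {h : G} (hh : Commute h C.z) {n : M4} (e : comp n (C.φ h) = idM) : C.φ h⁻¹ = n := by
  have h2 : comp (C.φ h) (C.φ h⁻¹) = idM := by rw [← C.φ_mul _ _ hh hh.inv_left, mul_inv_cancel, C.φ_one]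
  calc C.φ h⁻¹ = comp (comp n (C.φ h)) (C.φ h⁻¹) := by rw [e, idM_comp]
    _ = n := by rw [comp_assoc, h2, comp_idM]

/-- `Q` contains its centraliser. -/
theorem mem_Q_of_cent {c : G} (h : ∀ q ∈ C.Q, Commute c q) : c ∈ C.Q := by
  have hc : Commute c C.z := h _ C.z_mem
  refine (C.φ_ker c hc).1 (m4_ext fun v => ?_)
  obtain ⟨q, hq, rfl⟩ := C.vec_surj v
  rw [← C.vec_conj c hc q hq, (h q hq).eq, mul_inv_cancel_right, app_idM]

theorem om_left_nondeg : ∀ v : V, v = 0 ∨ om v b0 ≠ 0 ∨ om v b1 ≠ 0 ∨ om v b2 ≠ 0 ∨ om v b3 ≠ 0 := by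
  decide +kernel

/-- The centre of `Q` is generated by `z`. -/
theorem mem_zpowers_of_cent {c : G} (h : ∀ q ∈ C.Q, Commute c q) : c ∈ Subgroup.zpowers C.z := by
  have hcQ := C.mem_Q_of_cent h
  refine (C.vec_ker c hcQ).1 ?_
  have hom : ∀ v : V, om (C.vec c) v = 0 := fun v => by
    obtain ⟨q, hq, rfl⟩ := C.vec_surj v
    have e := C.comm c hcQ q hq
    rw [(h q hq).eq, mul_inv_cancel_right, mul_inv_cancel] at e
    have hd : orderOf C.z ∣ (om (C.vec c) (C.vec q)).val := orderOf_dvd_of_pow_eq_one e.symm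
    rw [C.z_ord] at hd
    have hlt := ZMod.val_lt (om (C.vec c) (C.vec q))
    exact (ZMod.val_eq_zero _).1 (by omega)
  exact (Cfg.om_left_nondeg (C.vec c)).resolve_right (by simp only [hom, ne_eq, not_true_eq_false, or_self, not_false_eq_true])

theorem zpowers_le_of_mem {c : G} (hc : c ∈ Subgroup.zpowers C.z) (hne : c ≠ 1) :
    C.z ∈ Subgroup.zpowers c := by
  obtain ⟨n, rfl⟩ := Subgroup.mem_zpowers_iff.1 hc
  have hn : IsCoprime n ((3 : ℕ) : ℤ) := by
    refine ((Nat.prime_iff_prime_int.1 Nat.prime_three).coprime_iff_not_dvd.2 fun ⟨m, hm⟩ => hne ?_).symm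
    rw [hm, zpow_mul, zpow_natCast, C.z_pow, one_zpow]
  obtain ⟨a, b, hab⟩ := hn
  refine Subgroup.mem_zpowers_iff.2 ⟨a, ?_⟩
  rw [← zpow_mul, show n * a = 1 + (3 : ℤ) * (-b) by push_cast at hab; linarith, zpow_add, zpow_mul, zpow_one,
    show (3 : ℤ) = ((3 : ℕ) : ℤ) from rfl, zpow_natCast, C.z_pow, one_zpow, mul_one]

include C in
/-- The centre is trivial. -/
theorem center_eq_bot : Subgroup.center G = ⊥ := by
  refine (Subgroup.eq_bot_iff_forall _).2 fun c hc => ?_
  have hall : ∀ x : G, Commute c x := fun x => (Subgroup.mem_center_iff.1 hc x).symm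
  by_contra hne
  have hz := C.zpowers_le_of_mem (C.mem_zpowers_of_cent fun q _ => hall q) hne
  obtain ⟨n, hn⟩ := Subgroup.mem_zpowers_iff.1 hz
  obtain ⟨g, -, hg⟩ := C.nwc
  refine hg ?_
  rw [show g * C.z * g⁻¹ = C.z by
    rw [← hn, ((hall g).zpow_left n).symm.eq, mul_inv_cancel_right]]
  exact Subgroup.mem_zpowers _

/-- `Q` lies in the Sylow subgroup. -/
theorem Q_le_S [Finite G] : C.Q ≤ (C.S : Subgroup G) := by
  have hn : (C.S : Subgroup G) ≤ Subgroup.normalizer (C.Q : Set G) := fun s hs =>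
    Subgroup.mem_normalizer_iff.2 fun q => ⟨C.conj_mem s (C.S_le s hs) q, fun h => by
      have := C.conj_mem s⁻¹ (C.S_le s hs).inv_left _ h
      simpa [mul_assoc] using this⟩
  have hQ : IsPGroup 3 C.Q := fun q => ⟨1, Subtype.ext (by simpa using C.cube q q.2)⟩
  exact le_sup_right.trans (le_of_eq (C.S.3 (IsPGroup.to_sup_of_normal_right' C.S.isPGroup' hQ hn) le_sup_left))

end Cfg

namespace JData

variable {G : Type*} [Group G] [Finite G] {C : Cfg G} (D : JData C)
include D

/-- A normal subgroup of odd order is trivial. -/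
theorem normal_odd_eq_bot (K : Subgroup G) [hKn : K.Normal] (hodd : (Nat.card K).Coprime 2) : K = ⊥ := by
  have : Fact (Nat.Prime 3) := ⟨Nat.prime_three⟩
  by_cases h3 : 3 ∣ Nat.card K
  swap
  · exact D.eq_bot_of_invariant K h3 (by rw [Subgroup.normalizer_eq_top K]; exact le_top)
  exfalso
  -- the centre of the Sylow subgroup puts `z` into `K`
  obtain ⟨x, hx⟩ := exists_prime_orderOf_dvd_card' 3 h3
  have hxo : orderOf (x : G) = 3 := (orderOf_injective K.subtype K.subtype_injective x).trans hx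
  obtain ⟨T, hT⟩ := (IsPGroup.of_card (n := 1) (by rw [Nat.card_zpowers, hxo, pow_one]) :
    IsPGroup 3 (Subgroup.zpowers (x : G))).exists_le_sylow
  obtain ⟨a, ha⟩ := MulAction.exists_smul_eq G T C.S
  have hxS : a * x * a⁻¹ ∈ (C.S : Subgroup G) := by
    rw [← ha]; exact Subgroup.smul_mem_pointwise_smul (x : G) (MulAut.conj a) _ (hT (Subgroup.mem_zpowers _))
  have : (K.subgroupOf (C.S : Subgroup G)).Normal := hKn.subgroupOf _
  have hne : K.subgroupOf (C.S : Subgroup G) ≠ ⊥ := fun h => by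
    have h2 : (⟨_, hxS⟩ : (C.S : Subgroup G)) ∈ K.subgroupOf (C.S : Subgroup G) := hKn.conj_mem _ x.2 a
    rw [h, Subgroup.mem_bot, Subtype.ext_iff] at h2
    rw [Subgroup.coe_one, conj_eq_one_iff] at h2
    rw [h2, orderOf_one] at hxo
    exact absurd hxo (by norm_num)
  obtain ⟨c, hc, hc1⟩ := (Subgroup.bot_or_exists_ne_one _).resolve_left
    (PGroup.inf_center_ne_bot C.S.isPGroup' hne)
  have hcK : (c : G) ∈ K := hc.1
  have hz : C.z ∈ K := by
    have hmem := C.mem_zpowers_of_cent (c := (c : G)) fun q hq =>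
      (congrArg Subtype.val (Subgroup.mem_center_iff.1 hc.2 ⟨q, C.Q_le_S hq⟩)).symm
    exact Subgroup.zpowers_le.2 hcK (C.zpowers_le_of_mem hmem fun e => hc1 (Subtype.ext e))
  -- a point outside `Q`
  set y := D.κ (0, 1, 0, 0) with hy
  have hyK : y ∈ K := by
    obtain ⟨g, e | e⟩ := (D.pt (0, 1, 0, 0)).2 sgc_second <;> rw [hy, e]
    · exact hKn.conj_mem _ hz g
    · exact inv_mem (hKn.conj_mem _ hz g)
  have hyz : Commute y C.z := D.κ_z ▸ D.κ_comm _ _
  have hy3 : y ^ 3 = 1 := D.isElementaryAbelian.2 y (D.κ_mem _)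
  have hm := C.φ_pow_three hyz hy3
  have hyQ : C.φ y ≠ idM := fun e => absurd ((D.mem_Q _).1 ((C.φ_ker y hyz).1 e)) one_ne_zero
  have hck := List.all_eq_true.1 three_check _ (C.φ_mem y hyz)
  simp only [Bool.or_eq_true, Bool.not_eq_true', decide_eq_false_iff_not, decide_eq_true_eq, hyQ, hm,
    not_true_eq_false, false_or, List.any_eq_true, Bool.and_eq_true] at hck
  obtain ⟨r, hr, hne', h4⟩ := hck
  obtain ⟨hrc, hr4⟩ := rGens_spec r hr
  obtain ⟨h, hh, rfl⟩ := C.φ_surj r hrc
  set k := y * h * (y⁻¹ * h⁻¹) with hk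
  have hkz : Commute k C.z := (hyz.mul_left hh).mul_left (hyz.inv_left.mul_left hh.inv_left)
  have hkK : k ∈ K := by
    rw [hk, show y * h * (y⁻¹ * h⁻¹) = y * (h * y⁻¹ * h⁻¹) by group]
    exact mul_mem hyK (hKn.conj_mem _ (inv_mem hyK) h)
  have hφk : C.φ k = comp (comp (C.φ y) (C.φ h)) (comp (comp (C.φ y) (C.φ y))
      (comp (C.φ h) (comp (C.φ h) (C.φ h)))) := by
    rw [hk, C.φ_mul _ _ (hyz.mul_left hh) (hyz.inv_left.mul_left hh.inv_left), C.φ_mul _ _ hyz hh,
      C.φ_mul _ _ hyz.inv_left hh.inv_left, C.φ_inv_eq hyz (n := comp (C.φ y) (C.φ y))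
        (by rw [comp_assoc]; exact hm), C.φ_inv_eq hh hr4]
  rw [← hφk, ← C.φ_mul _ _ hkz hkz, ← C.φ_mul _ _ (hkz.mul_left hkz) (hkz.mul_left hkz)] at h4
  rw [← hφk] at hne'
  have h4' : k ^ 4 ∈ C.Q := by
    rw [show k ^ 4 = k * k * (k * k) by rw [show 4 = 2 + 2 from rfl, pow_add, pow_two]]
    exact (C.φ_ker _ ((hkz.mul_left hkz).mul_left (hkz.mul_left hkz))).1 h4
  obtain ⟨m, hm'⟩ := exists_pow_eq_self_of_coprime (x := k) (n := 4) (by
    have h2 := hodd.of_dvd_left (Subgroup.orderOf_dvd_natCard K hkK)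
    exact (Nat.Coprime.pow_right 2 h2).symm)
  exact hne' ((C.φ_ker k hkz).2 (hm' ▸ pow_mem h4' m))

/-- The odd core is trivial. -/
theorem oddCore_eq_bot : Cfsg.oddCore G = ⊥ :=
  haveI : (Cfsg.oddCore G).Normal := Cores.pPrimeCore_normal 2 G
  D.normal_odd_eq_bot _ (Cores.coprime_card_pPrimeCore 2)

end JData

universe u

/-- The recognition of the second Conway group by an involution centraliser. -/
def CoTwoRecognition : Prop :=
  ∀ (G : Type u) [Group G] [Finite G], Cfsg.oddCore G = ⊥ → Subgroup.center G = ⊥ → ∀ t : G, orderOf t = 2 →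
    Cfsg.IsPConstrained 2 (Subgroup.centralizer ({t} : Set G)) →
    Cfsg.IsExtraspecial 2 (Cfsg.pCore 2 (Subgroup.centralizer ({t} : Set G))) →
    Nat.card (Cfsg.pCore 2 (Subgroup.centralizer ({t} : Set G))) = 2 ^ 9 →
    Nonempty ((Subgroup.centralizer ({t} : Set G)) ⧸ Cfsg.pCore 2 (Subgroup.centralizer ({t} : Set G)) ≃*
      Matrix.symplecticGroup (Fin 3) (ZMod 2)) →
    Cfsg.Spor.IsoCo2 G

/-- From the centraliser of the involution to the conclusion. -/
theorem conclude (hrec : CoTwoRecognition.{u}) {G : Type u} [Group G] [Finite G] (C : Cfg G) (D : JData C)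
    {t : G} (ht : orderOf t = 2) (E : Subgroup (Subgroup.centralizer ({t} : Set G))) [E.Normal]
    (hE : Cfsg.IsExtraspecial 2 ↥E) (hEc : Nat.card E = 2 ^ 9)
    (hCE : Subgroup.centralizer (E : Set (Subgroup.centralizer ({t} : Set G))) ≤ E)
    (e : (Subgroup.centralizer ({t} : Set G)) ⧸ E ≃* Matrix.symplecticGroup (Fin 3) (ZMod 2)) :
    Cfsg.Spor.IsoCo2 G := by
  have : Fact (Nat.Prime 2) := ⟨Nat.prime_two⟩
  have hE2 : IsPGroup 2 E := IsPGroup.of_card hEc
  -- the two-core
  have hcore : Cfsg.pCore 2 ↥(Subgroup.centralizer ({t} : Set G)) = E := by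
    refine le_antisymm ?_ (Cores.le_pCore inferInstance hE2)
    let f : ↥(Subgroup.centralizer ({t} : Set G)) →* Multiplier.Sp6.G0 := e.toMonoidHom.comp (QuotientGroup.mk' E)
    have hf : Function.Surjective f := e.surjective.comp (QuotientGroup.mk'_surjective E)
    have := CoTwoType.isSimpleGroup_G0
    have hbot : Cfsg.pCore 2 Multiplier.Sp6.G0 = ⊥ := by
      rcases (Cores.pCore_normal 2 Multiplier.Sp6.G0).eq_bot_or_eq_top with h | h
      · exact h
      · obtain ⟨n, hn⟩ := IsPGroup.iff_card.1 (Cores.isPGroup_pCore 2 Multiplier.Sp6.G0)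
        rw [h, Subgroup.card_top, Multiplier.Sp6.natCard_sp6] at hn
        have : 3 ∣ 2 ^ n := hn ▸ (by norm_num : 3 ∣ 1451520)
        exact absurd (Nat.prime_three.dvd_of_dvd_pow this) (by norm_num)
    intro c hc
    have h := Cores.map_pCore_le f hf 2 ⟨c, hc, rfl⟩
    rw [hbot, Subgroup.mem_bot] at h
    rw [← QuotientGroup.eq_one_iff, ← map_eq_one_iff e e.injective]
    exact h
  -- constrained
  have hO : Cfsg.pPrimeCore 2 ↥(Subgroup.centralizer ({t} : Set G)) = ⊥ := by
    have hN : (Cfsg.pPrimeCore 2 ↥(Subgroup.centralizer ({t} : Set G))).Normal := Cores.pPrimeCore_normal 2 ↥(Subgroup.centralizer ({t} : Set G))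
    have hdis : Disjoint (Cfsg.pPrimeCore 2 ↥(Subgroup.centralizer ({t} : Set G))) E := by
      rw [← hcore]; exact (Cores.disjoint_pCore_pPrimeCore (G := ↥(Subgroup.centralizer ({t} : Set G))) (p := 2)).symm
    have hle : Cfsg.pPrimeCore 2 ↥(Subgroup.centralizer ({t} : Set G)) ≤ E := fun c hc => hCE (Subgroup.mem_centralizer_iff.2 fun x hx =>
      (Subgroup.commute_of_normal_of_disjoint _ E hN inferInstance hdis c x hc hx).symm.eq)
    rw [← inf_eq_left.2 hle]
    exact hdis.eq_bot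
  have hcon : Cfsg.IsPConstrained 2 ↥(Subgroup.centralizer ({t} : Set G)) := by
    intro P
    have h2 := HallHigman.pPrimePCore_eq_pCore (p := 2) hO
    have hp : IsPGroup 2 ↥(Cfsg.pPrimePCore 2 ↥(Subgroup.centralizer ({t} : Set G))) := h2 ▸ Cores.isPGroup_pCore 2 ↥(Subgroup.centralizer ({t} : Set G))
    have hP : (P : Subgroup ↥(Cfsg.pPrimePCore 2 ↥(Subgroup.centralizer ({t} : Set G)))) = ⊤ := (P.3 (hp.to_subgroup ⊤) le_top).symm
    rw [hP, ← MonoidHom.range_eq_map, Subgroup.range_subtype, h2, hcore]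
    exact hCE
  exact hrec G D.oddCore_eq_bot C.center_eq_bot t ht hcon (by rw [hcore]; exact hE) (by rw [hcore]; exact hEc)
    ⟨(QuotientGroup.quotientMulEquivOfEq hcore).trans e⟩

end Cfsg.Agent.CoTwoThree
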