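/-
The group `Sp(4,3)` in coordinates and its involutions.

* `SpM` : the symplectic maps, a group under composition;
* `SpM.four` : two commuting involutions, the first not central, generate a group containing `-1`;
* `SpM.frame` : an involution exchanged with its negative by another involution, in standard form.
-/
import Cfsg.Agent.Lib.CoTwoThree.Model

set_option autoImplicit false
set_option maxRecDepth 100000
set_option synthInstance.maxSize 2000

namespace Cfsg.Agent.CoTwoThree

/-- Minus the identity. -/
def negM : M4 := blk neg2 neg2 false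

theorem app_negM (v : V) : app negM v = -v := by
  ext <;> simp [app, negM, blk, neg2, sm]

/-- The form-transpose of a symplectic map. -/
def coInv (m : M4) : M4 :=
  let r : V → V := fun v => ((om v m.c1, om m.c0 v), (om v m.c3, om m.c2 v))
  ⟨r b0, r b1, r b2, r b3⟩

theorem om_self (u : V) : om u u = 0 := by simp [om, det2]; ring

theorem om_swap (u v : V) : om v u = -om u v := by simp [om, det2]; ring

theorem om_add_left (u v w : V) : om (u + v) w = om u w + om v w := by simp [om, det2]; ring

theorem om_add_right (u v w : V) : om u (v + w) = om u v + om u w := by simp [om, det2]; ring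

theorem om_sm_left (a : F) (u v : V) : om (sm a u) v = a * om u v := by simp [om, det2, sm]; ring

theorem om_sm_right (a : F) (u v : V) : om u (sm a v) = a * om u v := by simp [om, det2, sm]; ring

theorem app_coInv (m : M4) (v : V) : app (coInv m) v = ((om v m.c1, om m.c0 v), (om v m.c3, om m.c2 v)) := by
  simp only [coInv, app, sm, om, det2, b0, b1, b2, b3]
  ext <;> simp <;> ring

theorem coInv_comp {m : M4} (h : Symp m) : comp (coInv m) m = idM := by
  obtain ⟨h01, h02, h03, h12, h13, h23⟩ := h
  have sw : ∀ {a b : V} {k : F}, om a b = k → om b a = -k := fun e => by rw [om_swap, e]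
  simp only [comp, app_coInv, h01, h02, h03, h12, h13, h23, sw h02, sw h12, sw h13,
    om_self]
  simp [idM, b0, b1, b2, b3]

theorem comp_coInv {m : M4} (h : Symp m) : comp m (coInv m) = idM := by
  have hl : Function.LeftInverse (app (coInv m)) (app m) := fun v => by
    rw [← app_comp, coInv_comp h, app_idM]
  have hs : Function.Surjective (app m) := Finite.injective_iff_surjective.1 hl.injective
  refine m4_ext fun v => ?_
  obtain ⟨w, rfl⟩ := hs v
  rw [app_comp, app_idM, hl w]

theorem symp_coInv {m : M4} (h : Symp m) : Symp (coInv m) := by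
  have e : ∀ u v : V, om (app (coInv m) u) (app (coInv m) v) = om u v := fun u v => by
    conv_rhs => rw [← app_idM u, ← app_idM v, ← comp_coInv h, app_comp, app_comp, symp_app h]
  have hb : ∀ k : M4, app k b0 = k.c0 ∧ app k b1 = k.c1 ∧ app k b2 = k.c2 ∧ app k b3 = k.c3 := fun k => by
    simp [app, sm, b0, b1, b2, b3, Prod.ext_iff]
  obtain ⟨e0, e1, e2, e3⟩ := hb (coInv m)
  unfold Symp
  simp only [← e0, ← e1, ← e2, ← e3, e]
  decide

/-- The symplectic group in coordinates. -/
def SpM : Type := {m : M4 // Symp m}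

namespace SpM

instance : Mul SpM := ⟨fun a b => ⟨comp a.1 b.1, symp_comp a.2 b.2⟩⟩
instance : One SpM := ⟨⟨idM, by decide⟩⟩
instance : Inv SpM := ⟨fun a => ⟨coInv a.1, symp_coInv a.2⟩⟩

theorem val_mul (a b : SpM) : (a * b).1 = comp a.1 b.1 := rfl
theorem val_one : (1 : SpM).1 = idM := rfl

instance : Group SpM :=
  Group.ofLeftAxioms (fun a b c => Subtype.ext (comp_assoc _ _ _)) (fun a => Subtype.ext (idM_comp _))
    (fun a => Subtype.ext (coInv_comp a.2))

theorem val_inv (a : SpM) : (a⁻¹).1 = coInv a.1 := rfl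

theorem ext' {a b : SpM} (h : a.1 = b.1) : a = b := Subtype.ext h

/-- The central involution. -/
def neg : SpM := ⟨negM, by decide⟩

theorem neg_comm (a : SpM) : neg * a = a * neg := ext' (neg_central a.1).symm

theorem neg_sq : neg * neg = 1 := ext' (by decide)

theorem neg_ne_one : neg ≠ 1 := fun h => absurd (congrArg Subtype.val h) (by decide)

/-- The reference involution. -/
def ref : SpM := ⟨vRef, by decide⟩

/-- The exchange of the planes. -/
def swap : SpM := ⟨swapM, by decide⟩

/-- The action on vectors. -/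
def act (a : SpM) (v : V) : V := app a.1 v

theorem act_mul (a b : SpM) (v : V) : (a * b).act v = a.act (b.act v) := app_comp _ _ _

theorem act_one (v : V) : (1 : SpM).act v = v := app_idM v

theorem om_act (a : SpM) (u v : V) : om (a.act u) (a.act v) = om u v := symp_app a.2 u v

theorem act_sm (a : SpM) (k : F) (v : V) : a.act (sm k v) = sm k (a.act v) := app_sm _ _ _

theorem act_add (a : SpM) (u v : V) : a.act (u + v) = a.act u + a.act v := app_add _ _ _

theorem ext_act {a b : SpM} (h : ∀ v, a.act v = b.act v) : a = b := ext' (m4_ext h)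

end SpM

theorem neg_eq_sm (v : V) : -v = sm (-1) v := by ext <;> simp [sm]

theorem sm_one (v : V) : sm 1 v = v := by ext <;> simp [sm]

theorem exists_om_ne : ∀ x : V, x ≠ 0 → om x b0 ≠ 0 ∨ om x b1 ≠ 0 ∨ om x b2 ≠ 0 ∨ om x b3 ≠ 0 := by
  decide +kernel

theorem f_sq_eq_one : ∀ k : F, k ≠ 0 → k * k = 1 := by decide

theorem f_neg_eq_self : ∀ k : F, k = -k → k = 0 := by decide

/-- Involutions of the special linear group of degree two. -/
theorem diag_invol : ∀ x ∈ slList, ∀ y ∈ slList, comp (blk x y false) (blk x y false) = idM →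
    blk x y false = idM ∨ blk x y false = negM ∨ blk x y false = vRef ∨ blk x y false = comp negM vRef := by
  decide +kernel

namespace SpM

/-- The map with given images of the basis. -/
def ofCols (x y u w : V) (h01 : om x y = 1) (h02 : om x u = 0) (h03 : om x w = 0) (h12 : om y u = 0)
    (h13 : om y w = 0) (h23 : om u w = 1) : SpM :=
  ⟨⟨x, y, u, w⟩, h01, h02, h03, h12, h13, h23⟩

theorem val_ofCols {x y u w : V} {h01 : om x y = 1} {h02 : om x u = 0} {h03 : om x w = 0} {h12 : om y u = 0}
    {h13 : om y w = 0} {h23 : om u w = 1} : (ofCols x y u w h01 h02 h03 h12 h13 h23).1 = ⟨x, y, u, w⟩ := rfl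

/-- A hyperbolic pair in an eigenspace. -/
theorem exists_pair {a : SpM} (ha : a * a = 1) {ε : F} (hε : ε * ε = 1) {x : V} (hx : x ≠ 0)
    (hax : a.act x = sm ε x) : ∃ y, a.act y = sm ε y ∧ om x y = 1 := by
  obtain ⟨v, hv⟩ : ∃ v, om x v ≠ 0 := by
    rcases exists_om_ne x hx with h | h | h | h <;> exact ⟨_, h⟩
  have haa : ∀ u, a.act (a.act u) = u := fun u => by rw [← act_mul, ha, act_one]
  set u := v + sm ε (a.act v) with hu
  have hau : a.act u = sm ε u := by
    rw [hu, act_add, act_sm, haa, sm_add, sm_sm, hε, sm_one, add_comm]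
  have e : om x (a.act v) = ε * om x v := by
    conv_lhs => rw [← sm_one x, ← hε, ← sm_sm, ← hax, om_sm_left, om_act]
  have hne : om x u ≠ 0 := by
    rw [hu, om_add_right, om_sm_right, e, ← mul_assoc, hε, one_mul]
    intro h
    exact hv (by revert h; generalize om x v = k; revert k; decide)
  refine ⟨sm (om x u) u, ?_, by rw [om_sm_right]; exact f_sq_eq_one _ hne⟩
  rw [act_sm, hau, sm_sm, sm_sm, mul_comm]

theorem exists_fixed {a : SpM} (ha : a * a = 1) (hne : a ≠ neg) : ∃ x, x ≠ 0 ∧ a.act x = sm 1 x := by
  by_contra! h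
  refine hne (ext_act fun v => ?_)
  have haa : a.act (a.act v) = v := by rw [← act_mul, ha, act_one]
  have h0 : a.act v + v = 0 := by
    by_contra hc
    exact h _ hc (by rw [act_add, haa, sm_one, add_comm])
  show _ = app negM v
  rw [app_negM]
  exact eq_neg_of_add_eq_zero_left h0

theorem exists_inverted {a : SpM} (ha : a * a = 1) (hne : a ≠ 1) : ∃ x, x ≠ 0 ∧ a.act x = sm (-1) x := by
  by_contra! h
  refine hne (ext_act fun v => ?_)
  have haa : a.act (a.act v) = v := by rw [← act_mul, ha, act_one]
  rw [act_one]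
  by_contra hc
  refine h (a.act v + sm (-1) v) ?_ ?_
  · rw [← neg_eq_sm, ← sub_eq_add_neg]
    exact sub_ne_zero.2 hc
  · rw [act_add, act_sm, haa, sm_add, sm_sm, show (-1 : F) * -1 = 1 by decide, sm_one, add_comm]

theorem orth {a : SpM} {x w : V} (hx : a.act x = sm 1 x) (hw : a.act w = sm (-1) w) : om x w = 0 := by
  have h := om_act a x w
  rw [hx, hw, om_sm_left, om_sm_right] at h
  exact f_neg_eq_self _ (by linear_combination -h)

/-- The standard form of an involution. -/
theorem exists_ref {a : SpM} (ha : a * a = 1) (h1 : a ≠ 1) (h2 : a ≠ neg) : ∃ P : SpM, P⁻¹ * a * P = ref := by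
  obtain ⟨x, hx0, hx⟩ := exists_fixed ha h2
  obtain ⟨y, hy, hxy⟩ := exists_pair ha (by decide) hx0 hx
  obtain ⟨u, hu0, hu⟩ := exists_inverted ha h1
  obtain ⟨w, hw, huw⟩ := exists_pair ha (by decide) hu0 hu
  refine ⟨ofCols x y u w hxy (orth hx hu) (orth hx hw) (orth hy hu) (orth hy hw) huw, ?_⟩
  rw [mul_assoc, inv_mul_eq_iff_eq_mul]
  refine ext' ?_
  simp only [act] at hx hy hu hw
  simp only [val_mul, val_ofCols, comp, hx, hy, hu, hw]
  simp [app, ref, vRef, blk, one2, neg2, sm, Prod.ext_iff]

/-- Two commuting involutions. -/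
theorem four {a b : SpM} (ha : a * a = 1) (hb : b * b = 1) (hab : a * b = b * a) (h1 : a ≠ 1) (h2 : a ≠ neg) :
    b = 1 ∨ b = neg ∨ b = a ∨ a * b = neg := by
  obtain ⟨P, hP⟩ := exists_ref ha h1 h2
  set k := P⁻¹ * b * P with hk
  have hkr : k * ref = ref * k := by
    calc k * ref = P⁻¹ * (b * a) * P := by rw [hk, ← hP]; group
      _ = P⁻¹ * (a * b) * P := by rw [hab]
      _ = ref * k := by rw [hk, ← hP]; group
  have hkk : k * k = 1 := by
    calc k * k = P⁻¹ * (b * b) * P := by rw [hk]; group
      _ = 1 := by rw [hb]; group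
  obtain ⟨x, hx, y, hy, e⟩ := diag_of_commute_vRef (m := k.1) (congrArg Subtype.val hkr)
  obtain ⟨hxs, hys⟩ := stab_split x hx y hy (e ▸ k.2)
  have hsq : comp (blk x y false) (blk x y false) = idM := by rw [← e]; exact congrArg Subtype.val hkk
  have hb' : b = P * k * P⁻¹ := by rw [hk]; group
  have ha' : a = P * ref * P⁻¹ := by rw [← hP]; group
  rcases diag_invol x hxs y hys hsq with h | h | h | h
  · left; rw [hb', show k = 1 from ext' (e.trans h)]; group
  · right; left
    rw [hb', show k = neg from ext' (e.trans h), ← neg_comm, mul_inv_cancel_right]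
  · right; right; left
    rw [hb', ha', show k = ref from ext' (e.trans h)]
  · right; right; right
    have hk' : ref * k = neg := by
      apply ext'
      show comp vRef k.1 = negM
      rw [e, h]
      decide +kernel
    calc a * b = P * (ref * k) * P⁻¹ := by rw [ha', hb']; group
      _ = neg := by rw [hk', ← neg_comm, mul_inv_cancel_right]

/-- An involution exchanged with its negative by another involution. -/
theorem frame {a s : SpM} (ha : a * a = 1) (hs : s * s = 1) (h1 : a ≠ 1) (h2 : a ≠ neg)
    (hsa : s * a * s⁻¹ = neg * a) : ∃ P : SpM, P⁻¹ * a * P = ref ∧ P⁻¹ * s * P = swap := by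
  obtain ⟨x, hx0, hx⟩ := exists_fixed ha h2
  obtain ⟨y, hy, hxy⟩ := exists_pair ha (by decide) hx0 hx
  have hex : ∀ {v : V}, a.act v = sm 1 v → a.act (s.act v) = sm (-1) (s.act v) := fun {v} hv => by
    have e : a * s = neg * (s * a) := by
      calc a * s = (neg * neg) * (a * s) := by rw [neg_sq, one_mul]
        _ = neg * ((s * a * s⁻¹) * s) := by rw [hsa]; group
        _ = _ := by group
    rw [← act_mul, e, act_mul, act_mul, hv, sm_one]
    show app negM _ = _
    rw [app_negM, neg_eq_sm]
  have hss : ∀ v, s.act (s.act v) = v := fun v => by rw [← act_mul, hs, act_one]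
  refine ⟨ofCols x y (s.act x) (s.act y) hxy (orth hx (hex hx)) (orth hx (hex hy)) (orth hy (hex hx))
    (orth hy (hex hy)) ((om_act s x y).trans hxy), ?_, ?_⟩
  · rw [mul_assoc, inv_mul_eq_iff_eq_mul]
    refine ext' ?_
    have e2 := hex hx
    have e3 := hex hy
    simp only [act] at hx hy e2 e3 ⊢
    simp only [val_mul, val_ofCols, comp, hx, hy, e2, e3]
    simp [app, ref, vRef, blk, one2, neg2, sm, Prod.ext_iff]
  · rw [mul_assoc, inv_mul_eq_iff_eq_mul]
    refine ext' ?_
    have e0 := hss x
    have e1 := hss y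
    simp only [act] at e0 e1 ⊢
    simp only [val_mul, val_ofCols, comp, e0, e1]
    simp [app, swap, swapM, blk, one2, sm, Prod.ext_iff]

end SpM

end Cfsg.Agent.CoTwoThree
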