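/-
An extension of an extraspecial group of order `32` by `A5` mapped to `Sp(4,3)`.

* `image_model` : if the kernel has order prime to three the map is injective and, after a change of basis,
  the image is exactly `cbList`.
-/
import Cfsg.Agent.Lib.CoTwoThree.SpFour
import Cfsg.Prelude.Def_Transfer
import Cfsg.Agent.Lib.Extraspecial.Basic

set_option autoImplicit false
set_option maxRecDepth 100000
set_option synthInstance.maxSize 2000

namespace Cfsg.Agent.CoTwoThree

theorem diag_swap : ∀ x ∈ slList, ∀ y ∈ slList, comp (blk x y false) swapM = comp swapM (blk x y false) → x = y := by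
  decide +kernel

theorem diag_four : ∀ x ∈ slList,
    comp (comp (blk x x false) (blk x x false)) (comp (blk x x false) (blk x x false)) = idM → x ∈ qList := by
  decide +kernel

theorem rList_decomp : ∀ r ∈ rList, ∃ q ∈ qList, ∃ e f : Bool,
    r = comp (blk q q false) (comp (cond e vRef idM) (cond f swapM idM)) := by
  decide +kernel

theorem card_qList : qList.toFinset.card = 8 := by decide +kernel

theorem card_rList : rList.toFinset.card = 32 := by decide +kernel

theorem rGens_sub : ∀ r ∈ rGens, r ∈ rList := by decide +kernel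

/-- Two commuting involutions of `A5` and, for each of the three involutions, an element not commuting with it. -/
theorem a5_four : ∃ a b g₁ g₂ g₃ : alternatingGroup (Fin 5), a * a = 1 ∧ b * b = 1 ∧ a * b = b * a ∧
    a ≠ 1 ∧ b ≠ 1 ∧ a * b ≠ 1 ∧ g₁ * a ≠ a * g₁ ∧ g₂ * b ≠ b * g₂ ∧ g₃ * (a * b) ≠ a * b * g₃ :=
  ⟨⟨Equiv.swap 0 1 * Equiv.swap 2 3, Equiv.Perm.mem_alternatingGroup.2 (by decide)⟩, ⟨Equiv.swap 0 2 * Equiv.swap 1 3, Equiv.Perm.mem_alternatingGroup.2 (by decide)⟩,
    ⟨Equiv.swap 0 4 * Equiv.swap 2 3, Equiv.Perm.mem_alternatingGroup.2 (by decide)⟩, ⟨Equiv.swap 0 4 * Equiv.swap 1 3, Equiv.Perm.mem_alternatingGroup.2 (by decide)⟩,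
    ⟨Equiv.swap 0 4 * Equiv.swap 1 2, Equiv.Perm.mem_alternatingGroup.2 (by decide)⟩, by decide, by decide, by decide, by decide, by decide,
    by decide, by decide, by decide, by decide⟩

namespace SpM

theorem card_le_four {H : Type*} [Group H] (D : Subgroup H) [Finite D] (ρ : H →* SpM)
    (hsq : ∀ x ∈ D, ρ x * ρ x = 1) (hc : ∀ x ∈ D, ∀ y ∈ D, ρ x * ρ y = ρ y * ρ x) :
    Nat.card (D.map ρ) ≤ 4 := by
  classical
  obtain ⟨a, ha⟩ : ∃ a : SpM, ∀ y ∈ D.map ρ, y = 1 ∨ y = neg ∨ y = a ∨ y = a * neg := by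
    by_cases h : ∀ y ∈ D.map ρ, y = 1 ∨ y = neg
    · exact ⟨1, fun y hy => (h y hy).elim Or.inl fun e => Or.inr (Or.inl e)⟩
    · push Not at h
      obtain ⟨a, ⟨x, hx, rfl⟩, h1, h2⟩ := h
      refine ⟨ρ x, ?_⟩
      rintro _ ⟨y, hy, rfl⟩
      rcases four (hsq x hx) (hsq y hy) (hc x hx y hy) h1 h2 with e | e | e | e
      · exact Or.inl e
      · exact Or.inr (Or.inl e)
      · exact Or.inr (Or.inr (Or.inl e))
      · exact Or.inr (Or.inr (Or.inr (by rw [← e, ← mul_assoc, hsq x hx, one_mul])))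
  have h1 : ((D.map ρ : Subgroup SpM) : Set SpM) ⊆ ↑([1, neg, a, a * neg].toFinset : Finset SpM) :=
    fun y hy => by
      rcases ha y hy with e | e | e | e <;> simp [e]
  calc Nat.card (D.map ρ) ≤ ([1, neg, a, a * neg].toFinset : Finset SpM).card := by
        rw [← Nat.card_eq_finsetCard]
        exact Nat.card_le_card_of_injective (fun y => ⟨y.1, h1 y.2⟩)
          fun u v e => Subtype.ext (congrArg Subtype.val e :)
    _ ≤ _ := List.toFinset_card_le _

end SpM

theorem fixed_mod_five {H : Type*} [Group H] [Finite H] (N : Subgroup H) [N.Normal] (f : H) (hf : orderOf f = 5) :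
    Nat.card N ≡ Nat.card (N ⊓ Subgroup.centralizer {f} : Subgroup H) [MOD 5] := by
  have : Fact (Nat.Prime 5) := ⟨by norm_num⟩
  letI act : MulAction (Subgroup.zpowers f) N :=
    MulAction.compHom N ((MulAut.conjNormal (H := N)).comp (Subgroup.zpowers f).subtype)
  have hp : IsPGroup 5 (Subgroup.zpowers f) :=
    IsPGroup.of_card (n := 1) (by rw [Nat.card_zpowers, hf, pow_one])
  have hdef : ∀ (g : Subgroup.zpowers f) (n : N), ((g • n : N) : H) = g.1 * n.1 * g.1⁻¹ := fun g n => rfl
  have hfix : ∀ n : N, n ∈ MulAction.fixedPoints (Subgroup.zpowers f) N ↔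
      (n : H) ∈ Subgroup.centralizer {f} := fun n => by
    rw [Subgroup.mem_centralizer_singleton_iff]
    constructor
    · intro h
      have e := congrArg Subtype.val (h ⟨f, Subgroup.mem_zpowers f⟩)
      rw [hdef] at e
      exact (mul_inv_eq_iff_eq_mul.1 e).symm
    · intro h g
      obtain ⟨g, k, rfl⟩ := g
      apply Subtype.ext
      rw [hdef]
      exact mul_inv_eq_iff_eq_mul.2 ((show Commute f n.1 from h.symm).zpow_left k).eq
  refine (hp.card_modEq_card_fixedPoints N).trans (congrArg (· % 5) (Nat.card_congr ?_))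
  exact { toFun := fun n => ⟨n.1.1, n.1.2, (hfix n.1).1 n.2⟩
          invFun := fun n => ⟨⟨n.1, n.2.1⟩, (hfix ⟨n.1, n.2.1⟩).2 n.2.2⟩
          left_inv := fun _ => rfl
          right_inv := fun _ => rfl }

section image

variable {H : Type*} [Group H] [Finite H] (R : Subgroup H)

/-- The facts used about the extraspecial group. -/
structure RData (t : H) : Prop where
  mem : t ∈ R
  ne : t ≠ 1
  sq : t * t = 1
  central : ∀ x ∈ R, x * t = t * x
  center : ∀ x ∈ R, (∀ y ∈ R, y * x = x * y) → x = 1 ∨ x = t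
  square : ∀ x ∈ R, x * x = 1 ∨ x * x = t
  comm : ∀ x ∈ R, ∀ y ∈ R, x * y * x⁻¹ * y⁻¹ = 1 ∨ x * y * x⁻¹ * y⁻¹ = t
  card : Nat.card R = 32

theorem exists_rData (hR : Cfsg.IsExtraspecial 2 R) (hRc : Nat.card R = 2 ^ 5) : ∃ t, RData R t := by
  have : Fact (Nat.Prime 2) := ⟨Nat.prime_two⟩
  obtain ⟨u, hu, hall⟩ := (Nat.card_eq_two_iff' (1 : Subgroup.center R)).1 hR.2
  have hmem : ∀ x : R, x ∈ Subgroup.center R → (x : H) = 1 ∨ (x : H) = (u : R) := fun x hx => by
    by_cases h : (⟨x, hx⟩ : Subgroup.center R) = 1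
    · exact Or.inl (congrArg (fun y : Subgroup.center R => ((y : R) : H)) h)
    · exact Or.inr (congrArg (fun y : Subgroup.center R => ((y : R) : H)) (hall _ h))
  refine ⟨(u : R), (u : R).2, fun h => hu (Subtype.ext (Subtype.ext h)), ?_, ?_, ?_, ?_, ?_, by rw [hRc]; norm_num⟩
  · rcases hmem ((u : R) * u) (mul_mem u.2 u.2) with e | e
    · exact e
    · exact absurd (mul_eq_left.1 e) fun h => hu (Subtype.ext (Subtype.ext h))
  · intro x hx
    exact congrArg Subtype.val (Subgroup.mem_center_iff.1 u.2 ⟨x, hx⟩)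
  · intro x hx h
    exact hmem ⟨x, hx⟩ (Subgroup.mem_center_iff.2 fun y => Subtype.ext (h y.1 y.2))
  · intro x hx
    rw [← pow_two]
    exact hmem ⟨x ^ 2, pow_mem hx 2⟩ (Extraspecial.pow_mem_center hR ⟨x, hx⟩)
  · intro x hx y hy
    exact hmem ⟨_, mul_mem (mul_mem (mul_mem hx hy) (inv_mem hx)) (inv_mem hy)⟩
      (Extraspecial.commutatorElement_mem_center hR ⟨x, hx⟩ ⟨y, hy⟩)

variable {R} {t : H}

theorem RData.card_cent (d : RData R t) (a : H) (ha : a ∈ R) {D : Subgroup H} (hD : D ≤ R) :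
    Nat.card D ≤ 2 * Nat.card (D ⊓ Subgroup.centralizer {a} : Subgroup H) := by
  classical
  set E := D ⊓ Subgroup.centralizer {a} with hE
  have hmem : ∀ x, x ∈ E ↔ x ∈ D ∧ x * a = a * x := fun x => by
    rw [hE, Subgroup.mem_inf, Subgroup.mem_centralizer_singleton_iff]
  by_cases h : D ≤ E
  · have := Subgroup.card_le_of_le h
    omega
  obtain ⟨b, hbD, hb⟩ := SetLike.not_le_iff_exists.1 h
  have hsplit : ∀ x ∈ D, x ∈ E ∨ b⁻¹ * x ∈ E := by
    intro x hx
    by_cases hxE : x ∈ E
    · exact Or.inl hxE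
    refine Or.inr ((hmem _).2 ⟨mul_mem (inv_mem hbD) hx, ?_⟩)
    have key : ∀ y ∈ D, y ∉ E → y * a * y⁻¹ = t * a := fun y hy hyE => by
      rcases d.comm y (hD hy) a ha with e | e
      · exact absurd ((hmem y).2 ⟨hy, mul_inv_eq_iff_eq_mul.1 (mul_inv_eq_one.1 e)⟩) hyE
      · exact mul_inv_eq_iff_eq_mul.1 e
    have e := (key x hx hxE).trans (key b hbD hb).symm
    calc b⁻¹ * x * a = b⁻¹ * (x * a * x⁻¹) * x := by group
      _ = a * (b⁻¹ * x) := by rw [e]; group
  let f : D → E × Bool := fun x =>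
    if hx : x.1 ∈ E then (⟨x.1, hx⟩, false) else (⟨b⁻¹ * x.1, (hsplit _ x.2).resolve_left hx⟩, true)
  have hf : Function.Injective f := by
    intro x y e
    by_cases hx : x.1 ∈ E <;> by_cases hy : y.1 ∈ E <;> simp [f, hx, hy] at e
    · exact e
    · exact e
  have := Nat.card_le_card_of_injective f hf
  rw [Nat.card_prod, Nat.card_eq_fintype_card (α := Bool), Fintype.card_bool] at this
  omega

theorem kernel_bot [R.Normal] (d : RData R t) (e : H ⧸ R ≃* alternatingGroup (Fin 5)) (ρ : H →* SpM)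
    (h3 : ¬ 3 ∣ Nat.card ρ.ker) : ρ.ker = ⊥ := by
  set π : H →* alternatingGroup (Fin 5) := e.toMonoidHom.comp (QuotientGroup.mk' R) with hπ
  have hπs : Function.Surjective π := e.surjective.comp (QuotientGroup.mk'_surjective R)
  have hπk : ∀ h, π h = 1 ↔ h ∈ R := fun h =>
    (MulEquiv.map_eq_one_iff e).trans (QuotientGroup.eq_one_iff h)
  have hA : Nat.card (alternatingGroup (Fin 5)) = 60 := by
    rw [Nat.card_eq_fintype_card]; rfl
  have hH : Nat.card H = 60 * 32 := by
    rw [← Subgroup.card_mul_index R, d.card, Subgroup.index_eq_card, Nat.card_congr e.toEquiv, hA]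
  have hKR : ρ.ker ≤ R := by
    have hn : (ρ.ker.map π).Normal := (MonoidHom.normal_ker ρ).map π hπs
    rcases (alternatingGroup.isSimpleGroup (α := Fin 5) (by simp)).eq_bot_or_eq_top_of_normal _ hn with h | h
    · intro x hx
      exact (hπk x).1 (by simpa [h] using Subgroup.mem_map_of_mem π hx)
    · exfalso
      have := Subgroup.card_map_dvd (f := π) ρ.ker
      rw [h, Subgroup.card_top, hA] at this
      exact h3 ((show (3 : ℕ) ∣ 60 by norm_num).trans this)
  by_contra hne
  have htK : t ∈ ρ.ker := by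
    obtain ⟨⟨x, hx⟩, hx1⟩ := Subgroup.ne_bot_iff_exists_ne_one.1 hne
    replace hx1 : x ≠ 1 := fun h => hx1 (Subtype.ext h)
    by_cases hc : ∀ y ∈ R, y * x = x * y
    · rcases d.center x (hKR hx) hc with e | e
      · exact absurd e hx1
      · exact e ▸ hx
    · push Not at hc
      obtain ⟨y, hy, hyx⟩ := hc
      rcases d.comm y hy x (hKR hx) with e | e
      · exact absurd (mul_inv_eq_iff_eq_mul.1 (mul_inv_eq_one.1 e)) hyx
      · exact e ▸ mul_mem ((MonoidHom.normal_ker ρ).conj_mem x hx y) (inv_mem hx)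
  have ht1 : ρ t = 1 := htK
  have hsq : ∀ x ∈ R, ρ x * ρ x = 1 := fun x hx => by
    rcases d.square x hx with e | e <;> rw [← map_mul, e]
    · exact map_one ρ
    · exact ht1
  have hc : ∀ x ∈ R, ∀ y ∈ R, ρ x * ρ y = ρ y * ρ x := fun x hx y hy => by
    have h : ρ (x * y * x⁻¹ * y⁻¹) = 1 := by
      rcases d.comm x hx y hy with e | e <;> rw [e]
      · exact map_one ρ
      · exact ht1
    rw [map_mul, map_mul, map_mul, map_inv, map_inv, mul_inv_eq_one, mul_inv_eq_iff_eq_mul] at h
    exact h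
  have hcard : Nat.card (R.map ρ) * Nat.card ρ.ker = 32 := by
    rw [← d.card]
    have h1 : Nat.card (ρ.ker.subgroupOf R) * ρ.ker.relIndex R = Nat.card R := Subgroup.card_mul_index _
    rw [Subgroup.relIndex_ker, Nat.card_congr (Subgroup.subgroupOfEquivOfLe hKR).toEquiv, mul_comm] at h1
    exact h1
  obtain ⟨L, hLs, hLR⟩ : ∃ L : Subgroup H, (∀ a, ∃ l ∈ L, π l = a) ∧ ∀ x ∈ L, x ∈ R → x ∈ ρ.ker := by
    by_cases hKeq : Nat.card ρ.ker = 32
    · refine ⟨⊤, fun a => (hπs a).imp fun _ h => ⟨trivial, h⟩, fun x _ hx => ?_⟩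
      rwa [Subgroup.eq_of_le_of_card_ge hKR (by rw [hKeq, d.card])]
    have hK8 : Nat.card ρ.ker = 8 ∨ Nat.card ρ.ker = 16 := by
      have h4 := SpM.card_le_four R ρ hsq hc
      interval_cases h : Nat.card (R.map ρ) <;> omega
    obtain ⟨f, hf⟩ : ∃ f : H, orderOf f = 5 := by
      have : Fact (Nat.Prime 5) := ⟨by norm_num⟩
      exact exists_prime_orderOf_dvd_card' 5 (by rw [hH]; norm_num)
    have htf : Commute t f := by
      show t * f = f * t
      have hcon : f * t * f⁻¹ = t := by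
        rcases d.center (f * t * f⁻¹) (Subgroup.Normal.conj_mem inferInstance t d.mem f) (fun y hy => by
          have h := d.central (f⁻¹ * y * f) (by simpa using Subgroup.Normal.conj_mem inferInstance y hy f⁻¹)
          calc y * (f * t * f⁻¹) = f * ((f⁻¹ * y * f) * t) * f⁻¹ := by group
            _ = f * t * f⁻¹ * y := by rw [h]; group) with h | h
        · exact absurd (conj_eq_one_iff.1 h) d.ne
        · exact h
      exact (mul_inv_eq_iff_eq_mul.1 hcon).symm
    have h2 : ∀ D : Subgroup H, t ∈ D → 2 ≤ Nat.card D := fun D hD => by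
      have := Subgroup.card_le_of_le (Subgroup.zpowers_le.2 hD)
      rwa [Nat.card_zpowers, orderOf_eq_prime (by rw [pow_two, d.sq]) d.ne] at this
    have hKf : ρ.ker ≤ Subgroup.centralizer {f} := by
      have hd := Subgroup.card_dvd_of_le (inf_le_left : ρ.ker ⊓ Subgroup.centralizer {f} ≤ ρ.ker)
      have hm := fixed_mod_five ρ.ker f hf
      have ht2 := h2 (ρ.ker ⊓ Subgroup.centralizer {f})
        ⟨htK, Subgroup.mem_centralizer_singleton_iff.2 htf.eq⟩
      have heq : Nat.card (ρ.ker ⊓ Subgroup.centralizer {f} : Subgroup H) = Nat.card ρ.ker := by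
        rcases hK8 with h | h <;> rw [h] at hd hm ⊢ <;>
          · have hle := Nat.le_of_dvd (by norm_num) hd
            generalize Nat.card (ρ.ker ⊓ Subgroup.centralizer {f} : Subgroup H) = m at hd hm ht2 hle ⊢
            interval_cases m <;> simp_all (config := {decide := true})
      exact inf_eq_left.1 (Subgroup.eq_of_le_of_card_ge inf_le_left heq.ge)
    have hRf : R ≤ Subgroup.centralizer {f} := by
      have hd := Subgroup.card_dvd_of_le (inf_le_left : R ⊓ Subgroup.centralizer {f} ≤ R)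
      have hm := fixed_mod_five R f hf
      have ht8 := Subgroup.card_le_of_le (le_inf hKR hKf)
      rw [d.card] at hd hm
      refine inf_eq_left.1 (Subgroup.eq_of_le_of_card_ge inf_le_left ?_)
      rw [d.card]
      have hle := Nat.le_of_dvd (by norm_num) hd
      have h8 : 8 ≤ Nat.card (R ⊓ Subgroup.centralizer {f} : Subgroup H) := by omega
      generalize Nat.card (R ⊓ Subgroup.centralizer {f} : Subgroup H) = m at hd hm hle h8 ⊢
      interval_cases m <;> simp_all (config := {decide := true})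
    refine ⟨Subgroup.centralizer (R : Set H), ?_, fun x hx hxR => ?_⟩
    · have hn : ((Subgroup.centralizer (R : Set H)).map π).Normal :=
        (Subgroup.normal_centralizer (H := R)).map π hπs
      rcases (alternatingGroup.isSimpleGroup (α := Fin 5) (by simp)).eq_bot_or_eq_top_of_normal _ hn with h | h
      · exfalso
        have hfm : f ∈ Subgroup.centralizer (R : Set H) := Subgroup.mem_centralizer_iff.2 fun y hy =>
          Subgroup.mem_centralizer_singleton_iff.1 (hRf hy)
        have hfR : f ∈ R := (hπk f).1 (by simpa [h] using Subgroup.mem_map_of_mem π hfm)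
        have := Subgroup.orderOf_dvd_natCard R hfR
        rw [hf, d.card] at this
        norm_num at this
      · intro a
        have ha : a ∈ (Subgroup.centralizer (R : Set H)).map π := h ▸ Subgroup.mem_top a
        exact ha
    · rcases d.center x hxR (fun y hy => Subgroup.mem_centralizer_iff.1 hx y hy) with e | e
      · rw [e]; exact one_mem _
      · rw [e]; exact htK
  obtain ⟨a, b, g₁, g₂, g₃, haa, hbb, hab, ha1, hb1, hab1, hg1, hg2, hg3⟩ := a5_four
  obtain ⟨x, hx, rfl⟩ := hLs a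
  obtain ⟨y, hy, rfl⟩ := hLs b
  have hker : ∀ u ∈ L, π u = 1 → ρ u = 1 := fun u hu h => hLR u hu ((hπk u).1 h)
  have hback : ∀ u, ρ u = 1 → π u = 1 := fun u h => (hπk u).2 (hKR h)
  have hneg : ∀ u g, ρ u = SpM.neg → π g * π u = π u * π g := fun u g h => by
    have h1 : ρ (g * u * g⁻¹ * u⁻¹) = 1 := by
      rw [map_mul, map_mul, map_mul, map_inv, map_inv, h, ← SpM.neg_comm, mul_inv_cancel_right, mul_inv_cancel]
    have h2 := hback _ h1
    rwa [map_mul, map_mul, map_mul, map_inv, map_inv, mul_inv_eq_one, mul_inv_eq_iff_eq_mul] at h2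
  obtain ⟨u₁, rfl⟩ := hπs g₁
  obtain ⟨u₂, rfl⟩ := hπs g₂
  obtain ⟨u₃, rfl⟩ := hπs g₃
  have hxy : ρ x * ρ y = ρ y * ρ x := by
    have h := hker (x * y * x⁻¹ * y⁻¹) (mul_mem (mul_mem (mul_mem hx hy) (inv_mem hx)) (inv_mem hy))
      (by rw [map_mul, map_mul, map_mul, map_inv, map_inv, hab]; group)
    rwa [map_mul, map_mul, map_mul, map_inv, map_inv, mul_inv_eq_one, mul_inv_eq_iff_eq_mul] at h
  have hx2 : ρ x * ρ x = 1 := by rw [← map_mul]; exact hker _ (mul_mem hx hx) (by rw [map_mul, haa])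
  have hy2 : ρ y * ρ y = 1 := by rw [← map_mul]; exact hker _ (mul_mem hy hy) (by rw [map_mul, hbb])
  rcases SpM.four hx2 hy2 hxy (fun h => ha1 (hback _ h)) (fun h => hg1 (hneg _ u₁ h)) with h | h | h | h
  · exact hb1 (hback _ h)
  · exact hg2 (hneg _ u₂ h)
  · exact hab1 (by rw [← map_mul]; exact hback _ (by rw [map_mul, h, hx2]))
  · exact hg3 (by rw [← map_mul]; exact hneg (x * y) u₃ (by rw [map_mul, h]))

/-- The image is `cbList` in a suitable basis. -/
theorem image_model [R.Normal] (hR : Cfsg.IsExtraspecial 2 R) (hRc : Nat.card R = 2 ^ 5)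
    (e : H ⧸ R ≃* alternatingGroup (Fin 5)) (ρ : H →* SpM) (h3 : ¬ 3 ∣ Nat.card ρ.ker) :
    Function.Injective ρ ∧ ∃ P : SpM, (∀ h, (P⁻¹ * ρ h * P).1 ∈ cbList) ∧
      ∀ m ∈ cbList, ∃ h, (P⁻¹ * ρ h * P).1 = m := by
  classical
  obtain ⟨t, d⟩ := exists_rData R hR hRc
  have hinj : Function.Injective ρ := (MonoidHom.ker_eq_bot_iff ρ).1 (kernel_bot d e ρ h3)
  refine ⟨hinj, ?_⟩
  -- a non-central involution
  obtain ⟨v, hv, hv2, hv1, hvt⟩ : ∃ v ∈ R, v * v = 1 ∧ v ≠ 1 ∧ v ≠ t := by
    obtain ⟨a, ha, ha1, hat⟩ : ∃ a ∈ R, a ≠ 1 ∧ a ≠ t := by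
      by_contra! h
      have : Nat.card R ≤ 2 := by
        refine (Nat.card_le_card_of_injective (fun x : R => decide (x.1 = 1)) fun x y e => ?_).trans (by simp)
        simp only [decide_eq_decide] at e
        by_cases hx : x.1 = 1
        · exact Subtype.ext (hx.trans (e.1 hx).symm)
        · exact Subtype.ext ((h x x.2 hx).trans (h y y.2 (mt e.2 hx)).symm)
      rw [d.card] at this
      omega
    rcases d.square a ha with e | e
    · exact ⟨a, ha, e, ha1, hat⟩
    have h16 := d.card_cent a ha le_rfl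
    obtain ⟨b, hb, hba⟩ : ∃ b ∈ R ⊓ Subgroup.centralizer {a}, b ∉ [1, t, a, a * t] := by
      by_contra! h
      have hle : Nat.card (R ⊓ Subgroup.centralizer {a} : Subgroup H) ≤
          ([1, t, a, a * t].toFinset : Finset H).card := by
        rw [← Nat.card_eq_finsetCard]
        exact Nat.card_le_card_of_injective (fun y => ⟨y.1, List.mem_toFinset.2 (h y.1 y.2)⟩)
          fun u v e => Subtype.ext (congrArg Subtype.val e :)
      have := hle.trans (List.toFinset_card_le _)
      rw [d.card] at h16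
      simp only [List.length_cons, List.length_nil] at this
      omega
    simp only [List.mem_cons, List.not_mem_nil, or_false, not_or] at hba
    obtain ⟨hb1, hbt, hbA, hbat⟩ := hba
    have hab : b * a = a * b := Subgroup.mem_centralizer_singleton_iff.1 hb.2
    rcases d.square b hb.1 with e' | e'
    · exact ⟨b, hb.1, e', hb1, hbt⟩
    refine ⟨a * b, mul_mem ha hb.1, ?_, ?_, ?_⟩
    · rw [mul_assoc, ← mul_assoc b, hab, mul_assoc a b, e', ← mul_assoc, e, d.sq]
    · intro h
      exact hbat (mul_left_cancel (a := a) (by rw [h, ← mul_assoc, e, d.sq]))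
    · intro h
      exact hbA (mul_left_cancel (a := a) (h.trans e.symm))
  -- `t` becomes the central involution
  have hv1' : ρ v ≠ 1 := fun h => hv1 (hinj (h.trans (map_one ρ).symm))
  have hvneg : ρ v ≠ SpM.neg := fun h => by
    rcases d.center v hv (fun y _ => hinj (by rw [map_mul, map_mul, h, SpM.neg_comm])) with e | e
    exacts [hv1 e, hvt e]
  have hv2' : ρ v * ρ v = 1 := by rw [← map_mul, hv2, map_one]
  obtain ⟨r, hr, hrv⟩ : ∃ r ∈ R, r * v * r⁻¹ = t * v := by
    by_contra! h
    rcases d.center v hv (fun y hy => by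
      rcases d.comm y hy v hv with e | e
      · exact mul_inv_eq_iff_eq_mul.1 (mul_inv_eq_one.1 e)
      · exact absurd (mul_inv_eq_iff_eq_mul.1 e) (h y hy)) with e | e
    exacts [hv1 e, hvt e]
  have htneg : ρ t = SpM.neg := by
    rcases SpM.four hv2' (b := ρ t) (by rw [← map_mul, d.sq, map_one])
      (by rw [← map_mul, ← map_mul, d.central v hv]) hv1' hvneg with h | h | h | h
    · exact absurd (hinj (h.trans (map_one ρ).symm)) d.ne
    · exact h
    · exact absurd (hinj h).symm hvt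
    · exfalso
      refine hvneg ?_
      have h1 : ρ r * ρ v * (ρ r)⁻¹ = SpM.neg := by
        rw [← map_inv, ← map_mul, ← map_mul, hrv, ← d.central v hv, map_mul, h]
      calc ρ v = (ρ r)⁻¹ * (ρ r * ρ v * (ρ r)⁻¹) * ρ r := by group
        _ = SpM.neg := by rw [h1, ← SpM.neg_comm]; group
  have hD8 : ∀ r ∈ R, 8 ≤ Nat.card
      ((R ⊓ Subgroup.centralizer {v}) ⊓ Subgroup.centralizer {r} : Subgroup H) := by
    intro r hr
    have h1 := d.card_cent v hv le_rfl
    have h2 := d.card_cent r hr (inf_le_left : R ⊓ Subgroup.centralizer {v} ≤ R)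
    rw [d.card] at h1
    omega
  -- the exchanging involution
  obtain ⟨s, hs, hs2, hsv⟩ : ∃ s ∈ R, s * s = 1 ∧ s * v * s⁻¹ = t * v := by
    rcases d.square r hr with e | e
    · exact ⟨r, hr, e, hrv⟩
    obtain ⟨x, hx, hx2⟩ : ∃ x ∈ (R ⊓ Subgroup.centralizer {v}) ⊓ Subgroup.centralizer {r}, x * x = t := by
      by_contra! h
      set D := (R ⊓ Subgroup.centralizer {v}) ⊓ Subgroup.centralizer {r}
      have hsq : ∀ x ∈ D, x * x = 1 := fun x hx => (d.square x hx.1.1).resolve_right (h x hx)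
      have hc : ∀ x ∈ D, ∀ y ∈ D, x * y = y * x := fun x hx y hy => by
        have hi : ∀ z ∈ D, z⁻¹ = z := fun z hz => inv_eq_of_mul_eq_one_right (hsq z hz)
        have := hi _ (mul_mem hx hy)
        rw [mul_inv_rev, hi x hx, hi y hy] at this
        exact this.symm
      have h4 := SpM.card_le_four D ρ (fun x hx => by rw [← map_mul, hsq x hx, map_one])
        (fun x hx y hy => by rw [← map_mul, ← map_mul, hc x hx y hy])
      rw [Subgroup.card_map_of_injective hinj] at h4
      have : 8 ≤ Nat.card D := hD8 r hr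
      omega
    have hxr : x * r = r * x := Subgroup.mem_centralizer_singleton_iff.1 hx.2
    have hxv : x * v = v * x := Subgroup.mem_centralizer_singleton_iff.1 hx.1.2
    refine ⟨r * x, mul_mem hr hx.1.1, ?_, ?_⟩
    · rw [mul_assoc, ← mul_assoc x, hxr, mul_assoc r x, hx2, ← mul_assoc, e, d.sq]
    · calc r * x * v * (r * x)⁻¹ = r * (x * v) * x⁻¹ * r⁻¹ := by group
        _ = r * v * r⁻¹ := by rw [hxv]; group
        _ = _ := hrv
  obtain ⟨P, hPv, hPs⟩ := SpM.frame (s := ρ s) hv2' (by rw [← map_mul, hs2, map_one]) hv1' hvneg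
    (by rw [← map_inv, ← map_mul, ← map_mul, hsv, map_mul, htneg])
  refine ⟨P, ?_⟩
  set ψ : H →* SpM := (MulAut.conj P⁻¹).toMonoidHom.comp ρ with hψ
  have hψe : ∀ h, ψ h = P⁻¹ * ρ h * P := fun h => by simp [hψ]
  simp only [← hψe]
  have hψi : Function.Injective ψ := (MulAut.conj P⁻¹).injective.comp hinj
  have hψv : (ψ v).1 = vRef := by rw [hψe, hPv]; rfl
  have hψs : (ψ s).1 = swapM := by rw [hψe, hPs]; rfl
  -- the quaternion part
  set D := (R ⊓ Subgroup.centralizer {v}) ⊓ Subgroup.centralizer {s} with hD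
  have hDq : ∀ x ∈ D, ∃ q ∈ qList, (ψ x).1 = blk q q false := by
    intro x hx
    have e1 : comp (ψ x).1 vRef = comp vRef (ψ x).1 := by
      rw [← hψv, ← SpM.val_mul, ← SpM.val_mul, ← map_mul, ← map_mul, Subgroup.mem_centralizer_singleton_iff.1 hx.1.2]
    have e2 : comp (ψ x).1 swapM = comp swapM (ψ x).1 := by
      rw [← hψs, ← SpM.val_mul, ← SpM.val_mul, ← map_mul, ← map_mul, Subgroup.mem_centralizer_singleton_iff.1 hx.2]
    have e4 : comp (comp (ψ x).1 (ψ x).1) (comp (ψ x).1 (ψ x).1) = idM := by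
      rw [← SpM.val_mul, ← SpM.val_mul, ← map_mul, ← map_mul]
      rcases d.square x hx.1.1 with e | e <;> rw [e]
      · rw [one_mul, map_one]; rfl
      · rw [d.sq, map_one]; rfl
    obtain ⟨a, ha, b, hb, he⟩ := diag_of_commute_vRef e1
    obtain ⟨hasl, hbsl⟩ := stab_split a ha b hb (he ▸ (ψ x).2)
    rw [he] at e2 e4
    obtain rfl := diag_swap a hasl b hbsl e2
    exact ⟨a, diag_four a hasl e4, he⟩
  have hquat : ∀ q ∈ qList, ∃ x ∈ R, (ψ x).1 = blk q q false := by
    intro q hq
    set f : D → qList.toFinset := fun x =>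
      ⟨(hDq x.1 x.2).choose, List.mem_toFinset.2 (hDq x.1 x.2).choose_spec.1⟩ with hf
    have hfi : Function.Injective f := fun x y e => Subtype.ext (hψi (Subtype.ext (by
      rw [(hDq x.1 x.2).choose_spec.2, (hDq y.1 y.2).choose_spec.2]
      exact congrArg (fun q : qList.toFinset => blk q.1 q.1 false) e)))
    have hcard : Nat.card D = Nat.card qList.toFinset := by
      refine le_antisymm (Nat.card_le_card_of_injective f hfi) ?_
      rw [Nat.card_eq_finsetCard, card_qList]
      exact hD8 s hs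
    obtain ⟨x, hx⟩ := ((Nat.bijective_iff_injective_and_card f).2 ⟨hfi, hcard⟩).2 ⟨q, List.mem_toFinset.2 hq⟩
    refine ⟨x, x.2.1.1, ?_⟩
    rw [(hDq x.1 x.2).choose_spec.2]
    exact congrArg (fun q : qList.toFinset => blk q.1 q.1 false) hx
  have hsub : ∀ m ∈ rList, ∃ x ∈ R, (ψ x).1 = m := by
    intro m hm
    obtain ⟨q, hq, b, c, rfl⟩ := rList_decomp m hm
    obtain ⟨x, hx, hxe⟩ := hquat q hq
    refine ⟨x * (cond b v 1 * cond c s 1),
      mul_mem hx (mul_mem (by cases b <;> [exact one_mem R; exact hv]) (by cases c <;> [exact one_mem R; exact hs])), ?_⟩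
    rw [map_mul, map_mul, SpM.val_mul, SpM.val_mul, hxe]
    cases b <;> cases c <;> simp [hψv, hψs, map_one, SpM.val_one]
  have hRl : ∀ x ∈ R, (ψ x).1 ∈ rList := by
    intro x hx
    choose f hfR hf using hsub
    set g : rList.toFinset → R := fun m => ⟨f m.1 (List.mem_toFinset.1 m.2), hfR _ _⟩ with hg
    have hgi : Function.Injective g := fun m n e => by
      have := congrArg (fun y : R => (ψ y.1).1) e
      simp only [hg, hf] at this
      exact Subtype.ext this
    obtain ⟨m, hm⟩ := ((Nat.bijective_iff_injective_and_card g).2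
      ⟨hgi, by rw [Nat.card_eq_finsetCard, card_rList, d.card]⟩).2 ⟨x, hx⟩
    have e : f m.1 (List.mem_toFinset.1 m.2) = x := congrArg Subtype.val hm
    rw [← e, hf]
    exact List.mem_toFinset.1 m.2
  have hmem : ∀ h, (ψ h).1 ∈ cbList := fun h => by
    refine mem_cbList (m' := (ψ h⁻¹).1) (ψ h).2 (fun g hg => ?_)
      (by rw [← SpM.val_mul, ← map_mul, inv_mul_cancel, map_one]; rfl)
      (by rw [← SpM.val_mul, ← map_mul, mul_inv_cancel, map_one]; rfl)
    obtain ⟨x, hx, rfl⟩ := hsub g (rGens_sub g hg)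
    refine ⟨(ψ (h * x * h⁻¹)).1, hRl _ (Subgroup.Normal.conj_mem inferInstance x hx h), ?_⟩
    rw [← SpM.val_mul, ← SpM.val_mul, ← map_mul, ← map_mul, inv_mul_cancel_right]
  refine ⟨hmem, fun m hm => ?_⟩
  have hH : Nat.card H = 1920 := by
    rw [← Subgroup.card_mul_index R, d.card, Subgroup.index_eq_card, Nat.card_congr e.toEquiv,
      Nat.card_eq_fintype_card]
    rfl
  set f : H → cbList.toFinset := fun h => ⟨(ψ h).1, List.mem_toFinset.2 (hmem h)⟩
  have hfi : Function.Injective f := fun a b e => hψi (Subtype.ext (congrArg Subtype.val e :))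
  have hcard : Nat.card H = Nat.card cbList.toFinset := by
    refine le_antisymm (Nat.card_le_card_of_injective f hfi) ?_
    rw [Nat.card_eq_finsetCard, hH, ← length_cbList]
    exact List.toFinset_card_le _
  obtain ⟨h, hh⟩ := ((Nat.bijective_iff_injective_and_card f).2 ⟨hfi, hcard⟩).2 ⟨m, List.mem_toFinset.2 hm⟩
  exact ⟨h, congrArg Subtype.val hh⟩

end image

end Cfsg.Agent.CoTwoThree
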