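/-
Coordinates on an extraspecial group of order `3⁵` normal in the centraliser of its centre.

* `Pre` : the intrinsic hypotheses;
* `Frame` : a symplectic frame, the coordinates `vec` and the induced maps `rho`;
* `Frame.mem_of_rho_eq_one` : an element acting trivially modulo the centre is `Q` times a centralising element.
-/
import Cfsg.Agent.Lib.CoTwoThree.SpFour

set_option autoImplicit false

namespace Cfsg.Agent.CoTwoThree

open scoped commutatorElement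

theorem comm_mul_left {G : Type*} [Group G] (a b c : G) (h : Commute a ⁅b, c⁆)
    (h' : Commute ⁅a, c⁆ ⁅b, c⁆) : ⁅a * b, c⁆ = ⁅a, c⁆ * ⁅b, c⁆ := by
  rw [h'.eq]
  calc ⁅a * b, c⁆ = (a * ⁅b, c⁆ * a⁻¹) * ⁅a, c⁆ := by simp only [commutatorElement_def]; group
    _ = _ := by rw [h.eq, mul_inv_cancel_right]

theorem comm_mul_right {G : Type*} [Group G] (a b c : G) (h : Commute b ⁅a, c⁆) :
    ⁅a, b * c⁆ = ⁅a, b⁆ * ⁅a, c⁆ := by
  calc ⁅a, b * c⁆ = ⁅a, b⁆ * (b * ⁅a, c⁆ * b⁻¹) := by simp only [commutatorElement_def]; group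
    _ = _ := by rw [h.eq, mul_inv_cancel_right]

/-- The intrinsic hypotheses. -/
structure Pre (G : Type*) [Group G] where
  /-- the central element -/
  z : G
  /-- the extraspecial subgroup -/
  Q : Subgroup G
  z_ord : orderOf z = 3
  z_mem : z ∈ Q
  Q_le : ∀ q ∈ Q, Commute q z
  conj_mem : ∀ h, Commute h z → ∀ q ∈ Q, h * q * h⁻¹ ∈ Q
  card_Q : Nat.card Q = 243
  comm_mem : ∀ i ∈ Q, ∀ j ∈ Q, ⁅i, j⁆ ∈ Subgroup.zpowers z
  center : ∀ q ∈ Q, (∀ r ∈ Q, r * q = q * r) → q ∈ Subgroup.zpowers z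
  cube_mem : ∀ q ∈ Q, q ^ 3 ∈ Subgroup.zpowers z

namespace Pre

variable {G : Type*} [Group G] (P : Pre G)

theorem commute_of_mem {h x : G} (hh : Commute h P.z) (hx : x ∈ Subgroup.zpowers P.z) : Commute h x := by
  obtain ⟨k, rfl⟩ := hx
  exact hh.zpow_right k

theorem exists_val (x : Subgroup.zpowers P.z) : ∃ k : F, P.z ^ k.val = (x : G) := by
  obtain ⟨n, hn⟩ := x.2
  refine ⟨(n : F), ?_⟩
  rw [← hn]
  show P.z ^ (n : F).val = P.z ^ n
  rw [← zpow_natCast, zpow_eq_zpow_iff_modEq, P.z_ord, ← ZMod.intCast_eq_intCast_iff]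
  simp

theorem z_pow_add (a b : F) : P.z ^ a.val * P.z ^ b.val = P.z ^ (a + b).val := by
  have h3 : P.z ^ 3 = 1 := P.z_ord ▸ pow_orderOf_eq_one P.z
  rw [← pow_add, pow_eq_pow_mod (a.val + b.val) h3, ZMod.val_add]

theorem z_pow_inj {a b : F} (h : P.z ^ a.val = P.z ^ b.val) : a = b := by
  apply ZMod.val_injective
  exact pow_injOn_Iio_orderOf (by rw [Set.mem_Iio, P.z_ord]; exact ZMod.val_lt a)
    (by rw [Set.mem_Iio, P.z_ord]; exact ZMod.val_lt b) h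

open Classical in
/-- The exponent of an element of the centre. -/
noncomputable def cv (x : G) : F :=
  if h : ∃ k : F, P.z ^ k.val = x then h.choose else 0

theorem cv_spec {x : G} (hx : x ∈ Subgroup.zpowers P.z) : P.z ^ (P.cv x).val = x := by
  have h := P.exists_val ⟨x, hx⟩
  rw [cv, dif_pos h]
  exact h.choose_spec

theorem cv_eq {x : G} {k : F} (h : P.z ^ k.val = x) : P.cv x = k :=
  P.z_pow_inj ((P.cv_spec (h ▸ pow_mem (Subgroup.mem_zpowers _) _)).trans h.symm)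

theorem cv_one : P.cv 1 = 0 := P.cv_eq (by simp)

theorem cv_mul {x y : G} (hx : x ∈ Subgroup.zpowers P.z) (hy : y ∈ Subgroup.zpowers P.z) :
    P.cv (x * y) = P.cv x + P.cv y :=
  P.cv_eq (by rw [← z_pow_add, P.cv_spec hx, P.cv_spec hy])

theorem cv_inv {x : G} (hx : x ∈ Subgroup.zpowers P.z) : P.cv x⁻¹ = -P.cv x :=
  eq_neg_of_add_eq_zero_left (by rw [← P.cv_mul (inv_mem hx) hx, inv_mul_cancel, P.cv_one])

theorem zpowers_le_Q {x : G} (hx : x ∈ Subgroup.zpowers P.z) : x ∈ P.Q :=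
  (Subgroup.zpowers_le.2 P.z_mem) hx

/-- The commutator pairing. -/
noncomputable def cm (i j : G) : F := P.cv ⁅i, j⁆

theorem cm_mul_left {i i' j : G} (hi : i ∈ P.Q) (hi' : i' ∈ P.Q) (hj : j ∈ P.Q) :
    P.cm (i * i') j = P.cm i j + P.cm i' j := by
  rw [cm, comm_mul_left _ _ _ (P.commute_of_mem (P.Q_le _ hi) (P.comm_mem _ hi' _ hj))
    (P.commute_of_mem (P.Q_le _ (P.zpowers_le_Q (P.comm_mem _ hi _ hj))) (P.comm_mem _ hi' _ hj)),
    P.cv_mul (P.comm_mem _ hi _ hj) (P.comm_mem _ hi' _ hj)]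
  rfl

theorem cm_mul_right {i j j' : G} (hi : i ∈ P.Q) (hj : j ∈ P.Q) (hj' : j' ∈ P.Q) :
    P.cm i (j * j') = P.cm i j + P.cm i j' := by
  rw [cm, comm_mul_right _ _ _ (P.commute_of_mem (P.Q_le _ hj) (P.comm_mem _ hi _ hj')),
    P.cv_mul (P.comm_mem _ hi _ hj) (P.comm_mem _ hi _ hj')]
  rfl

theorem cm_swap {i j : G} (hi : i ∈ P.Q) (hj : j ∈ P.Q) : P.cm j i = -P.cm i j := by
  rw [cm, ← commutatorElement_inv, P.cv_inv (P.comm_mem _ hi _ hj)]
  rfl

theorem cm_self {i : G} : P.cm i i = 0 := by rw [cm, commutatorElement_self, P.cv_one]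

theorem cm_central_right {i x : G} (hi : i ∈ P.Q) (hx : x ∈ Subgroup.zpowers P.z) : P.cm i x = 0 := by
  rw [cm, commutatorElement_eq_one_iff_commute.2 (P.commute_of_mem (P.Q_le _ hi) hx), P.cv_one]

theorem cm_one_left {j : G} : P.cm 1 j = 0 := by rw [cm, commutatorElement_one_left, P.cv_one]

theorem cm_one_right {i : G} : P.cm i 1 = 0 := by rw [cm, commutatorElement_one_right, P.cv_one]

theorem cm_inv_left {i j : G} (hi : i ∈ P.Q) (hj : j ∈ P.Q) : P.cm i⁻¹ j = -P.cm i j :=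
  eq_neg_of_add_eq_zero_left (by rw [← P.cm_mul_left (inv_mem hi) hi hj, inv_mul_cancel, P.cm_one_left])

theorem cm_inv_right {i j : G} (hi : i ∈ P.Q) (hj : j ∈ P.Q) : P.cm i j⁻¹ = -P.cm i j :=
  eq_neg_of_add_eq_zero_left (by rw [← P.cm_mul_right hi (inv_mem hj) hj, inv_mul_cancel, P.cm_one_right])

theorem cm_conj {h i j : G} (hh : Commute h P.z) (hi : i ∈ P.Q) (hj : j ∈ P.Q) :
    P.cm (h * i * h⁻¹) (h * j * h⁻¹) = P.cm i j := by
  rw [cm, cm, ← conjugate_commutatorElement, (P.commute_of_mem hh (P.comm_mem _ hi _ hj)).eq,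
    mul_inv_cancel_right]

theorem exists_partner {x : G} (hx : x ∈ P.Q) (hxz : x ∉ Subgroup.zpowers P.z) :
    ∃ q ∈ P.Q, P.cm x q = 1 := by
  obtain ⟨q, hq, hne⟩ : ∃ q ∈ P.Q, P.cm x q ≠ 0 := by
    by_contra! h
    refine hxz (P.center x hx fun q hq => ?_)
    have e := P.cv_spec (P.comm_mem x hx q hq)
    rw [show P.cv ⁅x, q⁆ = 0 from h q hq, ZMod.val_zero, pow_zero] at e
    exact (commutatorElement_eq_one_iff_mul_comm.1 e.symm).symm
  rcases (show P.cm x q = 1 ∨ P.cm x q = -1 by revert hne; generalize P.cm x q = k; revert k; decide) with e | e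
  · exact ⟨q, hq, e⟩
  · exact ⟨q⁻¹, inv_mem hq, by rw [P.cm_inv_right hx hq, e, neg_neg]⟩

end Pre

/-- A symplectic frame. -/
structure Frame {G : Type*} [Group G] (P : Pre G) where
  /-- first vector -/
  x₁ : G
  /-- second vector -/
  y₁ : G
  /-- third vector -/
  x₂ : G
  /-- fourth vector -/
  y₂ : G
  x₁_mem : x₁ ∈ P.Q
  y₁_mem : y₁ ∈ P.Q
  x₂_mem : x₂ ∈ P.Q
  y₂_mem : y₂ ∈ P.Q
  h₁ : P.cm x₁ y₁ = 1
  h₂ : P.cm x₂ y₂ = 1
  h₁₂ : P.cm x₁ x₂ = 0 ∧ P.cm x₁ y₂ = 0 ∧ P.cm y₁ x₂ = 0 ∧ P.cm y₁ y₂ = 0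

theorem exists_frame {G : Type*} [Group G] (P : Pre G) : Nonempty (Frame P) := by
  have : Finite P.Q := Nat.finite_of_card_ne_zero (by rw [P.card_Q]; norm_num)
  have : Finite (Subgroup.zpowers P.z) :=
    Nat.finite_of_card_ne_zero (by rw [Nat.card_zpowers, P.z_ord]; norm_num)
  obtain ⟨x, hx, hxz⟩ : ∃ x ∈ P.Q, x ∉ Subgroup.zpowers P.z := by
    by_contra! h
    have := Subgroup.card_le_of_le (show P.Q ≤ Subgroup.zpowers P.z from h)
    rw [P.card_Q, Nat.card_zpowers, P.z_ord] at this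
    omega
  obtain ⟨y, hy, hxy⟩ := P.exists_partner hx hxz
  let f : P.Q →* Multiplicative (F × F) :=
    MonoidHom.mk' (fun q => Multiplicative.ofAdd (P.cm x q, P.cm y q)) fun a b => by
      rw [Subgroup.coe_mul, P.cm_mul_right hx a.2 b.2, P.cm_mul_right hy a.2 b.2]; rfl
  have hk : 27 ≤ Nat.card f.ker := by
    have h1 := Subgroup.card_mul_index f.ker
    rw [Subgroup.index_ker, P.card_Q] at h1
    have h2 : Nat.card f.range ≤ 9 :=
      (Nat.card_le_card_of_injective _ Subtype.val_injective).trans (by simp)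
    by_contra hc
    push Not at hc
    nlinarith
  obtain ⟨u, hu, huz⟩ : ∃ u : P.Q, u ∈ f.ker ∧ (u : G) ∉ Subgroup.zpowers P.z := by
    by_contra! h
    have h1 : Nat.card f.ker ≤ Nat.card (Subgroup.zpowers P.z) :=
      Nat.card_le_card_of_injective (fun a => (⟨a.1.1, h a.1 a.2⟩ : Subgroup.zpowers P.z))
        fun a b e => Subtype.ext (Subtype.ext (congrArg Subtype.val e :))
    rw [Nat.card_zpowers, P.z_ord] at h1
    omega
  have hu' : P.cm x u = 0 ∧ P.cm y u = 0 := Prod.ext_iff.1 (Multiplicative.ofAdd.injective hu : _ = (0 : F × F))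
  obtain ⟨q, hq, huq⟩ := P.exists_partner u.2 huz
  set a := P.cm x q with ha
  set b := P.cm y q with hb
  refine ⟨⟨x, y, u, q * (x ^ b.val * y⁻¹ ^ a.val), hx, hy, u.2, mul_mem hq (mul_mem (pow_mem hx _) (pow_mem (inv_mem hy) _)), hxy, ?_, hu'.1, ?_, hu'.2, ?_⟩⟩
  all_goals
    have hp : ∀ (i j : G), i ∈ P.Q → j ∈ P.Q → ∀ n : ℕ, P.cm i (j ^ n) = n * P.cm i j := by
      intro i j hi hj n
      induction n with
      | zero => simp [P.cm_one_right]
      | succ n ih => rw [pow_succ, P.cm_mul_right hi (pow_mem hj n) hj, ih]; push_cast; ring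
    have hexp : ∀ i ∈ P.Q, P.cm i (q * (x ^ b.val * y⁻¹ ^ a.val)) = P.cm i q + (b * P.cm i x - a * P.cm i y) :=
      fun i hi => by
        rw [P.cm_mul_right hi hq (mul_mem (pow_mem hx _) (pow_mem (inv_mem hy) _)),
          P.cm_mul_right hi (pow_mem hx _) (pow_mem (inv_mem hy) _), hp i x hi hx, hp i y⁻¹ hi (inv_mem hy),
          P.cm_inv_right hi hy, ZMod.natCast_zmod_val, ZMod.natCast_zmod_val]
        ring
  · rw [hexp _ u.2, huq, P.cm_swap hx u.2, hu'.1, P.cm_swap hy u.2, hu'.2]; ring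
  · rw [hexp _ hx, ← ha, P.cm_self, hxy]; ring
  · rw [hexp _ hy, ← hb, P.cm_self, P.cm_swap hx hy, hxy]; ring

namespace Frame

variable {G : Type*} [Group G] {P : Pre G} (T : Frame P)

/-- The coordinates. -/
noncomputable def vec (q : G) : V :=
  ((P.cm q T.y₁, P.cm T.x₁ q), (P.cm q T.y₂, P.cm T.x₂ q))

theorem vec_mul {i j : G} (hi : i ∈ P.Q) (hj : j ∈ P.Q) : T.vec (i * j) = T.vec i + T.vec j := by
  simp [vec, P.cm_mul_left hi hj T.y₁_mem, P.cm_mul_left hi hj T.y₂_mem, P.cm_mul_right T.x₁_mem hi hj,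
    P.cm_mul_right T.x₂_mem hi hj]

theorem vec_x₁ : T.vec T.x₁ = b0 := by
  have h := T.h₁₂
  simp [vec, b0, T.h₁, P.cm_self, h.2.1, P.cm_swap T.x₁_mem T.x₂_mem, h.1]

theorem vec_y₁ : T.vec T.y₁ = b1 := by
  have h := T.h₁₂
  simp [vec, b1, T.h₁, P.cm_self, h.2.2.2, P.cm_swap T.y₁_mem T.x₂_mem, h.2.2.1]

theorem vec_x₂ : T.vec T.x₂ = b2 := by
  have h := T.h₁₂
  simp [vec, b2, T.h₂, P.cm_self, h.1, P.cm_swap T.y₁_mem T.x₂_mem, h.2.2.1]

theorem vec_y₂ : T.vec T.y₂ = b3 := by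
  have h := T.h₁₂
  simp [vec, b3, T.h₂, P.cm_self, h.2.1, P.cm_swap T.y₁_mem T.y₂_mem, h.2.2.2]

theorem vec_one : T.vec 1 = 0 := by simp [vec, P.cm_one_left, P.cm_one_right]

theorem vec_inv {q : G} (hq : q ∈ P.Q) : T.vec q⁻¹ = -T.vec q :=
  eq_neg_of_add_eq_zero_left (by rw [← T.vec_mul (inv_mem hq) hq, inv_mul_cancel, T.vec_one])

theorem vec_pow {q : G} (hq : q ∈ P.Q) (n : ℕ) : T.vec (q ^ n) = n • T.vec q := by
  induction n with
  | zero => rw [pow_zero, T.vec_one, zero_smul]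
  | succ n ih => rw [pow_succ, T.vec_mul (pow_mem hq n) hq, ih, succ_nsmul]

/-- A preimage. -/
def word (v : V) : G :=
  T.x₁ ^ v.1.1.val * T.y₁ ^ v.1.2.val * (T.x₂ ^ v.2.1.val * T.y₂ ^ v.2.2.val)

theorem word_mem (v : V) : T.word v ∈ P.Q :=
  mul_mem (mul_mem (pow_mem T.x₁_mem _) (pow_mem T.y₁_mem _))
    (mul_mem (pow_mem T.x₂_mem _) (pow_mem T.y₂_mem _))

theorem vec_word (v : V) : T.vec (T.word v) = v := by
  rw [word, T.vec_mul (mul_mem (pow_mem T.x₁_mem _) (pow_mem T.y₁_mem _))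
    (mul_mem (pow_mem T.x₂_mem _) (pow_mem T.y₂_mem _)),
    T.vec_mul (pow_mem T.x₁_mem _) (pow_mem T.y₁_mem _), T.vec_mul (pow_mem T.x₂_mem _) (pow_mem T.y₂_mem _),
    T.vec_pow T.x₁_mem, T.vec_pow T.y₁_mem, T.vec_pow T.x₂_mem, T.vec_pow T.y₂_mem, T.vec_x₁, T.vec_y₁,
    T.vec_x₂, T.vec_y₂]
  ext <;> simp [b0, b1, b2, b3]

theorem vec_central {q : G} (h : q ∈ Subgroup.zpowers P.z) : T.vec q = 0 := by
  have hq := P.zpowers_le_Q h
  simp [vec, P.cm_swap T.y₁_mem hq, P.cm_swap T.y₂_mem hq, P.cm_central_right T.y₁_mem h,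
    P.cm_central_right T.x₁_mem h, P.cm_central_right T.y₂_mem h, P.cm_central_right T.x₂_mem h]

theorem vec_eq_zero {q : G} (hq : q ∈ P.Q) : T.vec q = 0 ↔ q ∈ Subgroup.zpowers P.z := by
  refine ⟨fun h => ?_, T.vec_central⟩
  let f : P.Q →* Multiplicative V := MonoidHom.mk' (fun q => Multiplicative.ofAdd (T.vec q))
    fun a b => by rw [Subgroup.coe_mul, T.vec_mul a.2 b.2, ofAdd_add]
  have hsurj : Function.Surjective f := fun v =>
    ⟨⟨T.word v.toAdd, T.word_mem _⟩, congrArg Multiplicative.ofAdd (T.vec_word v.toAdd)⟩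
  have hcard : Nat.card f.ker * 81 = 243 := by
    have := Subgroup.card_mul_index f.ker
    rwa [Subgroup.index_ker, MonoidHom.range_eq_top.2 hsurj, Subgroup.card_top, P.card_Q,
      show Nat.card (Multiplicative V) = 81 by simp] at this
  have hle : (Subgroup.zpowers P.z).subgroupOf P.Q ≤ f.ker := fun x hx =>
    congrArg Multiplicative.ofAdd (T.vec_central (show (x : G) ∈ Subgroup.zpowers P.z from hx))
  have heq : (Subgroup.zpowers P.z).subgroupOf P.Q = f.ker := by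
    have : Finite P.Q := Nat.finite_of_card_ne_zero (by rw [P.card_Q]; norm_num)
    refine Subgroup.eq_of_le_of_card_ge hle ?_
    rw [Nat.card_congr (Subgroup.subgroupOfEquivOfLe (Subgroup.zpowers_le.2 P.z_mem)).toEquiv,
      Nat.card_zpowers, P.z_ord]
    omega
  have hm : (⟨q, hq⟩ : P.Q) ∈ f.ker := by
    show Multiplicative.ofAdd (T.vec q) = 1
    rw [h]; rfl
  rw [← heq] at hm
  exact hm

theorem exists_decomp {q : G} (hq : q ∈ P.Q) : ∃ t ∈ Subgroup.zpowers P.z, q = T.word (T.vec q) * t := by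
  refine ⟨(T.word (T.vec q))⁻¹ * q, ?_, by group⟩
  rw [← T.vec_eq_zero (mul_mem (inv_mem (T.word_mem _)) hq), T.vec_mul (inv_mem (T.word_mem _)) hq,
    T.vec_inv (T.word_mem _), T.vec_word, neg_add_cancel]

/-- Additive functions on `Q` trivial on the centre are given by the frame. -/
theorem additive_Q {A : Type*} [AddCommGroup A] (d : G → A)
    (hd : ∀ i ∈ P.Q, ∀ j ∈ P.Q, d (i * j) = d i + d j) (hz : ∀ t ∈ Subgroup.zpowers P.z, d t = 0)
    {q : G} (hq : q ∈ P.Q) : d q = (T.vec q).1.1.val • d T.x₁ + (T.vec q).1.2.val • d T.y₁ +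
      ((T.vec q).2.1.val • d T.x₂ + (T.vec q).2.2.val • d T.y₂) := by
  have hp : ∀ g ∈ P.Q, ∀ n : ℕ, d (g ^ n) = n • d g := by
    intro g hg n
    induction n with
    | zero => rw [pow_zero, hz 1 (one_mem _), zero_smul]
    | succ n ih => rw [pow_succ, hd _ (pow_mem hg n) _ hg, ih, succ_nsmul]
  obtain ⟨t, ht, e⟩ := T.exists_decomp hq
  conv_lhs => rw [e]
  rw [hd _ (T.word_mem _) _ (P.zpowers_le_Q ht), hz t ht, add_zero, word,
    hd _ (mul_mem (pow_mem T.x₁_mem _) (pow_mem T.y₁_mem _)) _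
      (mul_mem (pow_mem T.x₂_mem _) (pow_mem T.y₂_mem _)),
    hd _ (pow_mem T.x₁_mem _) _ (pow_mem T.y₁_mem _), hd _ (pow_mem T.x₂_mem _) _ (pow_mem T.y₂_mem _),
    hp _ T.x₁_mem, hp _ T.y₁_mem, hp _ T.x₂_mem, hp _ T.y₂_mem]

theorem cm_eq_om {i j : G} (hi : i ∈ P.Q) (hj : j ∈ P.Q) : P.cm i j = om (T.vec i) (T.vec j) := by
  rw [T.additive_Q (fun x => P.cm x j) (fun a ha b hb => P.cm_mul_left ha hb hj)
    (fun t ht => by rw [P.cm_swap hj (P.zpowers_le_Q ht), P.cm_central_right hj ht, neg_zero]) hi]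
  simp only [vec, om, det2, P.cm_swap hj T.y₁_mem, P.cm_swap hj T.y₂_mem, nsmul_eq_mul,
    ZMod.natCast_zmod_val]
  ring

/-- The induced map. -/
noncomputable def rho (h : G) : M4 :=
  ⟨T.vec (h * T.x₁ * h⁻¹), T.vec (h * T.y₁ * h⁻¹), T.vec (h * T.x₂ * h⁻¹), T.vec (h * T.y₂ * h⁻¹)⟩

theorem vec_conj {h q : G} (hh : Commute h P.z) (hq : q ∈ P.Q) :
    T.vec (h * q * h⁻¹) = app (T.rho h) (T.vec q) := by
  rw [T.additive_Q (fun q => T.vec (h * q * h⁻¹)) (fun i hi j hj => ?_) (fun t ht => ?_) hq]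
  · simp only [rho, app, sm]
    ext <;> simp [nsmul_eq_mul] <;> ring
  · rw [← T.vec_mul (P.conj_mem h hh i hi) (P.conj_mem h hh j hj)]; congr 1; group
  · rw [(P.commute_of_mem hh ht).eq, mul_inv_cancel_right, T.vec_central ht]

theorem symp_rho {h : G} (hh : Commute h P.z) : Symp (T.rho h) := by
  have e : ∀ {a b : G}, a ∈ P.Q → b ∈ P.Q →
      om (T.vec (h * a * h⁻¹)) (T.vec (h * b * h⁻¹)) = om (T.vec a) (T.vec b) := fun ha hb => by
    rw [← T.cm_eq_om (P.conj_mem h hh _ ha) (P.conj_mem h hh _ hb), P.cm_conj hh ha hb, T.cm_eq_om ha hb]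
  simp only [Symp, rho, e T.x₁_mem T.y₁_mem, e T.x₁_mem T.x₂_mem, e T.x₁_mem T.y₂_mem, e T.y₁_mem T.x₂_mem,
    e T.y₁_mem T.y₂_mem, e T.x₂_mem T.y₂_mem, T.vec_x₁, T.vec_y₁, T.vec_x₂, T.vec_y₂]
  decide

theorem rho_mul {g h : G} (hg : Commute g P.z) (hh : Commute h P.z) :
    T.rho (g * h) = comp (T.rho g) (T.rho h) := by
  have e : ∀ q ∈ P.Q, T.vec (g * h * q * (g * h)⁻¹) = app (T.rho g) (T.vec (h * q * h⁻¹)) := fun q hq => by
    rw [← T.vec_conj hg (P.conj_mem h hh q hq)]; congr 1; group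
  simp only [rho, comp] at e ⊢
  rw [e _ T.x₁_mem, e _ T.y₁_mem, e _ T.x₂_mem, e _ T.y₂_mem]

/-- An element acting trivially modulo the centre. -/
theorem mem_of_rho_eq_one {h : G} (hh : Commute h P.z) (e : T.rho h = idM) :
    ∃ q ∈ P.Q, ∀ r ∈ P.Q, (q⁻¹ * h) * r = r * (q⁻¹ * h) := by
  have htriv : ∀ q ∈ P.Q, ⁅h, q⁆ ∈ Subgroup.zpowers P.z := fun q hq => by
    have hq' := P.conj_mem h hh q hq
    show h * q * h⁻¹ * q⁻¹ ∈ _
    rw [← T.vec_eq_zero (mul_mem hq' (inv_mem hq)), T.vec_mul hq' (inv_mem hq), T.vec_inv hq,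
      T.vec_conj hh hq, e, app_idM, add_neg_cancel]
  set d : G → F := fun q => P.cv ⁅h, q⁆ with hd
  set q₀ := T.word ((d T.y₁, -d T.x₁), (d T.y₂, -d T.x₂)) with hq₀
  have hq₀m : q₀ ∈ P.Q := T.word_mem _
  have hdq : ∀ q ∈ P.Q, d q = P.cm q₀ q := by
    intro q hq
    rw [T.cm_eq_om hq₀m hq, hq₀, T.vec_word, T.additive_Q d (fun i hi j hj => ?_) (fun t ht => ?_) hq]
    · simp only [om, det2, nsmul_eq_mul, ZMod.natCast_zmod_val]; ring
    · rw [hd]; dsimp only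
      rw [comm_mul_right _ _ _ (P.commute_of_mem (P.Q_le _ hi) (htriv j hj)),
        P.cv_mul (htriv i hi) (htriv j hj)]
    · rw [hd]; dsimp only
      rw [commutatorElement_eq_one_iff_commute.2 (P.commute_of_mem hh ht), P.cv_one]
  refine ⟨q₀, hq₀m, fun q hq => ?_⟩
  have e1 := P.cv_spec (htriv q hq)
  have e2 := P.cv_spec (P.comm_mem q₀ hq₀m q hq)
  rw [show P.cv ⁅h, q⁆ = P.cv ⁅q₀, q⁆ from hdq q hq, e2] at e1
  simp only [commutatorElement_def] at e1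
  have e3 : h * q * h⁻¹ = q₀ * q * q₀⁻¹ := mul_right_cancel e1.symm
  calc q₀⁻¹ * h * q = q₀⁻¹ * (h * q * h⁻¹) * h := by group
    _ = _ := by rw [e3]; group

theorem rho_of_mem {h : G} (hh : h ∈ P.Q) : T.rho h = idM := by
  have e : ∀ q ∈ P.Q, T.vec (h * q * h⁻¹) = T.vec q := fun q hq => by
    rw [T.vec_mul (mul_mem hh hq) (inv_mem hh), T.vec_mul hh hq, T.vec_inv hh, add_neg_cancel_comm]
  simp only [rho, e _ T.x₁_mem, e _ T.y₁_mem, e _ T.x₂_mem, e _ T.y₂_mem, T.vec_x₁, T.vec_y₁, T.vec_x₂,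
    T.vec_y₂]
  rfl

theorem cube {h : G} (hh : Commute h P.z) (he : T.rho h = negM) {q : G} (hq : q ∈ P.Q) : q ^ 3 = 1 := by
  have hv : T.vec (h * q * h⁻¹ * q) = 0 := by
    rw [T.vec_mul (P.conj_mem h hh q hq) hq, T.vec_conj hh hq, he, app_negM, neg_add_cancel]
  obtain ⟨ζ, hζ, e⟩ : ∃ ζ ∈ Subgroup.zpowers P.z, h * q * h⁻¹ = ζ * q⁻¹ :=
    ⟨_, (T.vec_eq_zero (mul_mem (P.conj_mem h hh q hq) hq)).1 hv, by group⟩
  have h3 : ∀ t ∈ Subgroup.zpowers P.z, t ^ 3 = 1 := fun t ht => by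
    obtain ⟨k, rfl⟩ := ht
    rw [← zpow_natCast, ← zpow_mul, mul_comm, zpow_mul, zpow_natCast, ← P.z_ord, pow_orderOf_eq_one,
      one_zpow]
  have e3 : (h * q * h⁻¹) ^ 3 = h * q ^ 3 * h⁻¹ := conj_pow
  rw [(P.commute_of_mem hh (P.cube_mem q hq)).eq, mul_inv_cancel_right, e,
    (P.commute_of_mem (P.Q_le _ hq).inv_left hζ).symm.mul_pow, h3 ζ hζ, one_mul, inv_pow] at e3
  have h9 := h3 _ (P.cube_mem q hq)
  set w := q ^ 3
  have hw2 : w * w = 1 := by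
    nth_rewrite 1 [← e3]
    exact inv_mul_cancel w
  rw [pow_three, hw2, mul_one] at h9
  exact h9

end Frame

end Cfsg.Agent.CoTwoThree
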