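/-
The configuration of the recognition statement of the second Conway group by a three-centraliser.

* `exists_cfg` : from the hypotheses of the statement to `Cfg`.
-/
import Cfsg.Prelude.Def_Local
import Cfsg.Prelude.Def_Solvable
import Cfsg.Agent.Lib.CoTwoThree.Cfg
import Cfsg.Agent.Lib.CoTwoThree.Pre
import Cfsg.Agent.Lib.CoTwoThree.Image
import Cfsg.Agent.Lib.Cores.Basic

set_option autoImplicit false

namespace Cfsg.Agent.CoTwoThree

open scoped commutatorElement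

/-- The configuration from the hypotheses. -/
theorem exists_cfg {G : Type*} [Group G] [Finite G]
    (S : Sylow 3 G) (Z : Subgroup G)
    (hZ : Z = (S : Subgroup G) ⊓ Subgroup.centralizer ((S : Subgroup G) : Set G))
    (C : Subgroup G) (hCZ : C = Subgroup.centralizer (Z : Set G))
    (hQ : Cfsg.IsExtraspecial 3 (Cfsg.pCore 3 C)) (hQcard : Nat.card (Cfsg.pCore 3 C) = 3 ^ 5)
    (hR : Cfsg.IsExtraspecial 2 (Cfsg.pCore 2 (C ⧸ Cfsg.pCore 3 C)))
    (hRcard : Nat.card (Cfsg.pCore 2 (C ⧸ Cfsg.pCore 3 C)) = 2 ^ 5)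
    (e : (C ⧸ Cfsg.pCore 3 C) ⧸ Cfsg.pCore 2 (C ⧸ Cfsg.pCore 3 C) ≃* alternatingGroup (Fin 5))
    (hnwc : ¬ Cfsg.IsWeaklyClosed Z S) :
    ∃ c : Cfg G, Z = Subgroup.zpowers c.z ∧ C = Subgroup.centralizer {c.z} ∧
      c.Q = (Cfsg.pCore 3 C).map C.subtype := by
  classical
  have : Fact (Nat.Prime 3) := ⟨Nat.prime_three⟩
  set Q₀ := Cfsg.pCore 3 C with hQ₀
  have hZS : Z ≤ (S : Subgroup G) := hZ ▸ inf_le_left
  have hSC : (S : Subgroup G) ≤ C := fun s hs => by
    rw [hCZ, Subgroup.mem_centralizer_iff]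
    intro x hx
    rw [SetLike.mem_coe, hZ] at hx
    exact (Subgroup.mem_centralizer_iff.1 hx.2 s hs).symm
  have hZC : Z ≤ C := hZS.trans hSC
  -- the centre
  have hZcen : ∀ x (hx : x ∈ Z), (⟨x, hZC hx⟩ : C) ∈ Subgroup.center C := fun x hx =>
    Subgroup.mem_center_iff.2 fun g => Subtype.ext
      (Subgroup.mem_centralizer_iff.1 (hCZ ▸ g.2 : (g : G) ∈ Subgroup.centralizer (Z : Set G)) x hx).symm
  have hZQ : ∀ x (hx : x ∈ Z), (⟨x, hZC hx⟩ : C) ∈ Q₀ := fun x hx => by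
    have hn : (Z.subgroupOf C).Normal := ⟨fun y hy g => by
      have hc := Subgroup.mem_center_iff.1 (hZcen (y : G) hy) g
      rw [show g * y * g⁻¹ = y by rw [show g * y = y * g from hc, mul_inv_cancel_right]]
      exact hy⟩
    refine Cores.le_pCore hn (IsPGroup.of_injective (S.isPGroup'.to_le hZS)
      ((Subgroup.subgroupOfEquivOfLe hZC).toMonoidHom) (Subgroup.subgroupOfEquivOfLe hZC).injective) ?_
    exact hx
  set Qg : Subgroup G := Q₀.map C.subtype with hQg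
  have memQ : ∀ {g : G}, g ∈ Qg → ∃ h : g ∈ C, (⟨g, h⟩ : C) ∈ Q₀ := by
    rintro _ ⟨x, hx, rfl⟩
    exact ⟨x.2, hx⟩
  have toQ : ∀ {g : G} (h : g ∈ C), (⟨g, h⟩ : C) ∈ Q₀ → g ∈ Qg := fun h hm => ⟨_, hm, rfl⟩
  have hQgcard : Nat.card Qg = 243 := by
    rw [hQg, Subgroup.card_map_of_injective Subtype.val_injective, hQcard]; norm_num
  set S₀ : Sylow 3 C := S.subtype hSC with hS₀
  have memS₀ : ∀ x : C, x ∈ (S₀ : Subgroup C) ↔ (x : G) ∈ (S : Subgroup G) := fun x => Iff.rfl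
  have hQS : Qg ≤ (S : Subgroup G) := by
    rintro _ ⟨x, hx, rfl⟩
    exact (memS₀ x).1 (Cores.pCore_le_sylow S₀ hx)
  -- the generator
  obtain ⟨z, hzZ, hzo, hZz, hcen⟩ : ∃ z, z ∈ Z ∧ orderOf z = 3 ∧ Z = Subgroup.zpowers z ∧
      ∀ x : Q₀, x ∈ Subgroup.center Q₀ → ((x : C) : G) ∈ Subgroup.zpowers z := by
    let ι : Z →* Subgroup.center Q₀ :=
      { toFun := fun x => ⟨⟨⟨x.1, hZC x.2⟩, hZQ x.1 x.2⟩, Subgroup.mem_center_iff.2 fun r => Subtype.ext
          (Subgroup.mem_center_iff.1 (hZcen x.1 x.2) r.1)⟩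
        map_one' := rfl
        map_mul' := fun _ _ => rfl }
    have hιi : Function.Injective ι := fun x y e =>
      Subtype.ext (congrArg (fun w : Subgroup.center Q₀ => (((w : Q₀) : C) : G)) e)
    have hdvd : Nat.card Z ∣ 3 := hQ.2 ▸ Subgroup.card_dvd_of_injective ι hιi
    have hne : Nat.card Z ≠ 1 := by
      intro h1
      have : Nontrivial (S : Subgroup G) := by
        rw [← Finite.one_lt_card_iff_nontrivial]
        have := Subgroup.card_le_of_le hQS
        omega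
      have := S.isPGroup'.center_nontrivial
      obtain ⟨⟨w, hw⟩, hw1⟩ := exists_ne (1 : Subgroup.center (S : Subgroup G))
      have hwZ : (w : G) ∈ Z := by
        rw [hZ]
        exact ⟨w.2, Subgroup.mem_centralizer_iff.2 fun r hr =>
          congrArg Subtype.val (Subgroup.mem_center_iff.1 hw ⟨r, hr⟩)⟩
      rw [(Subgroup.card_eq_one.1 h1), Subgroup.mem_bot] at hwZ
      exact hw1 (Subtype.ext (Subtype.ext hwZ))
    have hZ3 : Nat.card Z = 3 := ((Nat.dvd_prime Nat.prime_three).1 hdvd).resolve_left hne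
    obtain ⟨x, hx⟩ := exists_prime_orderOf_dvd_card' (G := ↥Z) 3 (by rw [hZ3])
    have hxo : orderOf (x : G) = 3 := by rw [← hx, Subgroup.orderOf_coe]
    have hzp : Z = Subgroup.zpowers (x : G) :=
      (Subgroup.eq_of_le_of_card_ge (Subgroup.zpowers_le.2 x.2) (by rw [Nat.card_zpowers, hxo, hZ3])).symm
    refine ⟨x, x.2, hxo, hzp, fun w hw => ?_⟩
    obtain ⟨v, hv⟩ := ((Nat.bijective_iff_injective_and_card ι).2 ⟨hιi, by rw [hQ.2, hZ3]⟩).2 ⟨w, hw⟩
    rw [← hzp, ← congrArg (fun u : Subgroup.center Q₀ => (((u : Q₀) : C) : G)) hv]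
    exact v.2
  have memC : ∀ g : G, g ∈ C ↔ Commute g z := fun g => by
    rw [hCZ, Subgroup.mem_centralizer_iff]
    constructor
    · exact fun h => (h z hzZ).symm
    · intro h x hx
      rw [hZz] at hx
      obtain ⟨k, rfl⟩ := hx
      exact (h.zpow_right k).eq.symm
  have hC : C = Subgroup.centralizer {z} := by
    ext g
    rw [memC, Subgroup.mem_centralizer_singleton_iff]; rfl
  let P₀ : Pre G :=
    { z := z
      Q := Qg
      z_ord := hzo
      z_mem := toQ (hZC hzZ) (hZQ z hzZ)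
      Q_le := fun q hq => (memC q).1 (memQ hq).1
      conj_mem := fun h hh q hq => by
        obtain ⟨hqC, hq'⟩ := memQ hq
        exact ⟨_, (Cores.pCore_normal 3 C).conj_mem ⟨q, hqC⟩ hq' ⟨h, (memC h).2 hh⟩, rfl⟩
      card_Q := hQgcard
      comm_mem := fun i hi j hj => by
        obtain ⟨hiC, hi'⟩ := memQ hi
        obtain ⟨hjC, hj'⟩ := memQ hj
        exact hcen _ (Extraspecial.commutatorElement_mem_center hQ (⟨⟨i, hiC⟩, hi'⟩ : Q₀) ⟨⟨j, hjC⟩, hj'⟩)
      center := fun q hq hall => by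
        obtain ⟨hqC, hq'⟩ := memQ hq
        exact hcen ⟨⟨q, hqC⟩, hq'⟩ (Subgroup.mem_center_iff.2 fun r =>
          Subtype.ext (Subtype.ext (hall _ ⟨r.1, r.2, rfl⟩)))
      cube_mem := fun q hq => by
        obtain ⟨hqC, hq'⟩ := memQ hq
        simpa using hcen _ (Extraspecial.pow_mem_center hQ (⟨⟨q, hqC⟩, hq'⟩ : Q₀)) }
  obtain ⟨T⟩ := exists_frame P₀
  have hco : ∀ h : C, Commute (h : G) P₀.z := fun h => (memC h.1).1 h.2
  let ρ : C →* SpM :=
    MonoidHom.mk' (fun h => ⟨T.rho h, T.symp_rho (hco h)⟩) fun a b => SpM.ext' (T.rho_mul (hco a) (hco b))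
  have hker : Q₀ ≤ ρ.ker := fun x hx => SpM.ext' (T.rho_of_mem (h := (x : G)) ⟨x, hx, rfl⟩)
  -- cards
  have hCq : Nat.card (C ⧸ Q₀) = 1920 := by
    rw [← Subgroup.card_mul_index (Cfsg.pCore 2 (C ⧸ Q₀)), hRcard, Subgroup.index_eq_card,
      Nat.card_congr e.toEquiv, Nat.card_eq_fintype_card]
    rfl
  have hS729 : Nat.card (S₀ : Subgroup C) = 729 := by
    rw [Sylow.card_eq_multiplicity, show Nat.card C = 3 ^ 6 * 640 by
      rw [← Subgroup.card_mul_index Q₀, hQcard, Subgroup.index_eq_card, hCq]; norm_num]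
    rw [Nat.factorization_mul (by norm_num) (by norm_num), Finsupp.add_apply,
      Nat.factorization_eq_zero_of_not_dvd (n := 640) (by norm_num), add_zero,
      Nat.Prime.factorization_pow Nat.prime_three, Finsupp.single_eq_same]
    norm_num
  have hSQ : ∀ y : C, y ∈ (S₀ : Subgroup C) → ρ y = 1 → y ∈ Q₀ := by
    intro y hy hy1
    obtain ⟨q, hq, hcent⟩ := T.mem_of_rho_eq_one (hco y) (congrArg Subtype.val hy1)
    obtain ⟨hqC, hq'⟩ := memQ (show q ∈ Qg from hq)
    set k : C := (⟨q, hqC⟩ : C)⁻¹ * y with hk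
    have hkS : k ∈ (S₀ : Subgroup C) := mul_mem (inv_mem (Cores.pCore_le_sylow S₀ hq')) hy
    suffices hkQ : k ∈ Q₀ by
      have := mul_mem hq' hkQ
      rwa [hk, mul_inv_cancel_left] at this
    by_contra hkQ
    set W : Subgroup C := (S₀ : Subgroup C) ⊓ Subgroup.centralizer {k}
    have hQW : Q₀ ≤ W := fun x hx => ⟨Cores.pCore_le_sylow S₀ hx,
      Subgroup.mem_centralizer_singleton_iff.2 (Subtype.ext (hcent _ ⟨x, hx, rfl⟩).symm)⟩
    have hkW : k ∈ W := ⟨hkS, Subgroup.mem_centralizer_singleton_iff.2 rfl⟩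
    have h1 : Nat.card W ≠ 243 := fun h => by
      have e := Subgroup.eq_of_le_of_card_ge hQW (by rw [h, hQcard]; norm_num)
      exact hkQ (e.symm ▸ hkW)
    have h2 := Subgroup.card_dvd_of_le hQW
    have h3 := Subgroup.card_dvd_of_le (inf_le_left : W ≤ (S₀ : Subgroup C))
    rw [hQcard] at h2
    rw [hS729] at h3
    obtain ⟨m, hm⟩ := h2
    have hm3 : m ∣ 3 := by
      rw [hm, show (729 : ℕ) = 3 ^ 5 * 3 by norm_num] at h3
      exact Nat.dvd_of_mul_dvd_mul_left (by norm_num) h3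
    have hWS : W = (S₀ : Subgroup C) := Subgroup.eq_of_le_of_card_ge inf_le_left (by
      rcases (Nat.dvd_prime Nat.prime_three).1 hm3 with rfl | rfl
      · exact absurd (by rw [hm]; norm_num) h1
      · rw [hS729, hm]; norm_num)
    refine hkQ (hZQ (k : G) ?_)
    rw [hZ]
    refine ⟨hkS, Subgroup.mem_centralizer_iff.2 fun r hr => ?_⟩
    have hrW : (⟨r, hSC hr⟩ : C) ∈ W := by rw [hWS]; exact hr
    exact congrArg Subtype.val (Subgroup.mem_centralizer_singleton_iff.1 hrW.2)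
  set ρb : C ⧸ Q₀ →* SpM := QuotientGroup.lift Q₀ ρ hker with hρb
  have h3 : ¬ 3 ∣ Nat.card ρb.ker := by
    intro h
    obtain ⟨x, hx⟩ := exists_prime_orderOf_dvd_card' (G := ρb.ker) 3 h
    obtain ⟨y, hy⟩ := QuotientGroup.mk'_surjective Q₀ (x : C ⧸ Q₀)
    have hy1 : ρ y = 1 := by
      have := x.2
      rw [MonoidHom.mem_ker, ← hy] at this
      exact this
    have hy3 : y ^ 3 ∈ Q₀ := by
      have h0 : x ^ 3 = 1 := orderOf_dvd_iff_pow_eq_one.1 hx.dvd
      rw [← QuotientGroup.eq_one_iff, QuotientGroup.mk_pow, show (y : C ⧸ Q₀) = x from hy, ← Subgroup.coe_pow,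
        h0, Subgroup.coe_one]
    have hyp : IsPGroup 3 (Subgroup.zpowers y) := by
      have h729 : y ^ (3 ^ 6) = 1 := by
        rw [show (3 : ℕ) ^ 6 = 3 * 3 ^ 5 by norm_num, pow_mul]
        exact orderOf_dvd_iff_pow_eq_one.1 (hQcard ▸ Subgroup.orderOf_dvd_natCard Q₀ hy3)
      obtain ⟨k, -, hk⟩ := (Nat.dvd_prime_pow Nat.prime_three).1 (orderOf_dvd_of_pow_eq_one h729)
      exact IsPGroup.of_card (n := k) (by rw [Nat.card_zpowers, hk])
    obtain ⟨S₁, hS₁⟩ := hyp.exists_le_sylow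
    obtain ⟨g, hg⟩ := MulAction.exists_smul_eq C S₁ S₀
    have hgy : g * y * g⁻¹ ∈ (S₀ : Subgroup C) := by
      rw [← hg, Sylow.coe_subgroup_smul]
      exact Subgroup.smul_mem_pointwise_smul y _ _ (hS₁ (Subgroup.mem_zpowers y))
    have hgQ := hSQ _ hgy (by rw [map_mul, map_mul, map_inv, hy1, mul_one, mul_inv_cancel])
    have hyQ : y ∈ Q₀ := by
      have := (Cores.pCore_normal 3 C).conj_mem _ hgQ g⁻¹
      simpa [mul_assoc] using this
    have : (x : C ⧸ Q₀) = 1 := hy ▸ (QuotientGroup.eq_one_iff y).2 hyQ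
    rw [← Subgroup.coe_one, Subtype.coe_inj] at this
    rw [this, orderOf_one] at hx
    norm_num at hx
  obtain ⟨hinj, M, hmem, hsurj⟩ := image_model (R := Cfsg.pCore 2 (C ⧸ Q₀)) hR hRcard e ρb h3
  set φ : G → M4 := fun g => comp (coInv M.1) (comp (T.rho g) M.1) with hφ
  have hφC : ∀ h : C, φ h = (M⁻¹ * ρb h * M).1 := fun h => by
    rw [hφ, mul_assoc]; rfl
  have key : ∀ {a b : SpM}, M⁻¹ * a * M = b → a = M * b * M⁻¹ := fun {a b} h => by rw [← h]; group
  have hφi : ∀ h (hh : Commute h z), φ h = idM → h ∈ Qg := fun h hh he => by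
    have h1 : M⁻¹ * ρb (⟨h, (memC h).2 hh⟩ : C) * M = 1 := SpM.ext' ((hφC ⟨h, (memC h).2 hh⟩).symm.trans he)
    have h2 : ρb ((⟨h, (memC h).2 hh⟩ : C) : C ⧸ Q₀) = ρb 1 := by
      rw [map_one]
      rw [key h1, mul_one, mul_inv_cancel]
    exact toQ _ ((QuotientGroup.eq_one_iff _).1 (hinj h2))
  have hcM : comp (coInv M.1) M.1 = idM := coInv_comp M.2
  have hMc : comp M.1 (coInv M.1) = idM := comp_coInv M.2
  refine ⟨{
    z := z
    Q := Qg
    φ := φ
    vec := fun q => app (coInv M.1) (T.vec q)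
    z_ord := hzo
    z_mem := P₀.z_mem
    Q_le := P₀.Q_le
    cube := ?_
    vec_mul := fun i hi j hj => by rw [T.vec_mul hi hj, app_add]
    vec_surj := fun v => ⟨T.word (app M.1 v), T.word_mem _, by
      rw [T.vec_word, ← app_comp, hcM, app_idM]⟩
    vec_ker := fun q hq => ?_
    comm := fun i hi j hj => ?_
    φ_mul := fun g h hg hh => ?_
    φ_ker := fun h hh => ⟨hφi h hh, fun hm => ?_⟩
    φ_mem := fun h hh => ?_
    φ_surj := fun m hm => ?_
    conj_mem := P₀.conj_mem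
    vec_conj := fun h hh q hq => ?_
    S := S
    S_le := fun s hs => (memC s).1 (hSC hs)
    nwc := ?_ }, hZz, hC, rfl⟩
  · intro q hq
    obtain ⟨h, hh⟩ := hsurj negM (by decide +kernel)
    obtain ⟨h, rfl⟩ := QuotientGroup.mk'_surjective Q₀ h
    refine T.cube (hco h) ?_ hq
    have e1 : M⁻¹ * ρb (h : C ⧸ Q₀) * M = SpM.neg := SpM.ext' hh
    have e2 : ρ h = SpM.neg := by
      show ρb (h : C ⧸ Q₀) = SpM.neg
      rw [key e1, ← SpM.neg_comm, mul_inv_cancel_right]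
    exact congrArg Subtype.val e2
  · rw [← T.vec_eq_zero (P := P₀) hq]
    constructor
    · intro h
      have := congrArg (app M.1) h
      rwa [← app_comp, hMc, app_idM, show app M.1 0 = 0 by simp [app, sm]] at this
    · intro h; rw [h]; simp [app, sm]
  · rw [symp_app (symp_coInv M.2), ← T.cm_eq_om hi hj]
    exact ((P₀.cv_spec (P₀.comm_mem i hi j hj)).symm.trans rfl)
  · simp only [hφ, T.rho_mul (P := P₀) hg hh, comp_assoc]
    congr 2
    rw [← comp_assoc M.1, hMc, idM_comp]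
  · simp only [hφ, T.rho_of_mem (P := P₀) hm, idM_comp, hcM]
  · exact (hφC ⟨h, (memC h).2 hh⟩) ▸ hmem _
  · obtain ⟨h, hh⟩ := hsurj m hm
    obtain ⟨h, rfl⟩ := QuotientGroup.mk'_surjective Q₀ h
    exact ⟨h, hco h, (hφC h).trans hh⟩
  · rw [T.vec_conj (P := P₀) hh hq]
    simp only [hφ, app_comp]
    rw [← app_comp M.1, hMc, app_idM]
  · by_contra hne
    push Not at hne
    refine hnwc ⟨hZS, fun g hg => ?_⟩
    have hmap : Z.map (MulAut.conj g).toMonoidHom = Subgroup.zpowers (g * z * g⁻¹) := by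
      rw [hZz, MonoidHom.map_zpowers]; rfl
    rw [hmap] at hg ⊢
    have h := hne g (hg (Subgroup.mem_zpowers _))
    rw [hZz]
    exact Subgroup.eq_of_le_of_card_ge (Subgroup.zpowers_le.2 h)
      (by rw [Nat.card_zpowers, Nat.card_zpowers]; exact (orderOf_injective (MulAut.conj g).toMonoidHom (MulAut.conj g).injective z).symm.le)

end Cfsg.Agent.CoTwoThree
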