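/-
The space `F₄⁴` with the diagonal three-group of the elements `ω^s`, `sum s = 0`, and the even permutations.

* `scal`, `mv`, `mon` : diagonal maps, even monomial maps, semilinear monomial maps;
* `exists_mon` : a linear map normalising the diagonal group is semilinear monomial;
* `exists_norm_weight` : normal forms of vectors;
* `mon_cases` : semilinear monomial involutions.
-/
import Cfsg.Agent.EqLemmas

set_option autoImplicit false
set_option maxRecDepth 100000

namespace Cfsg.Agent.CoTwoThree.Mono

/-- The field of four elements, additively, on the basis `1, ω`. -/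
abbrev F := ZMod 2 × ZMod 2

/-- The space. -/
abbrev V := Fin 4 → F

/-- Multiplication by `ω`. -/
def om (x : F) : F := (x.2, x.1 + x.2)

/-- Multiplication by `ω ^ r`. -/
def rot (r : ZMod 3) (x : F) : F := if r = 0 then x else if r = 1 then om x else om (om x)

/-- The field automorphism, or the identity. -/
def cjp (ε : Bool) (x : F) : F := if ε then (x.1 + x.2, x.2) else x

/-- The sign of `cjp`. -/
def sgn (ε : Bool) : ZMod 3 := if ε then -1 else 1

theorem rot_add : ∀ r x y, rot r (x + y) = rot r x + rot r y := by decide +kernel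

theorem rot_rot : ∀ r r' x, rot r (rot r' x) = rot (r + r') x := by decide +kernel

theorem rot_zero : ∀ x, rot 0 x = x := by decide +kernel

theorem rot_fix : ∀ r x, rot r x = x → r ≠ 0 → x = 0 := by decide +kernel

theorem rot_to_one : ∀ x : F, x ≠ 0 → ∃ r, rot r x = (1, 0) := by decide +kernel

theorem rot_apply_zero : ∀ r, rot r (0 : F) = 0 := by decide +kernel

theorem cjp_rot : ∀ ε r x, cjp ε (rot r x) = rot (sgn ε * r) (cjp ε x) := by decide +kernel

theorem twist_eq : ∀ ε m r r', (∀ x, rot m (cjp ε (rot r x)) = rot r' (rot m (cjp ε x))) → r' = sgn ε * r := by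
  decide +kernel

theorem semilinear_of_values : ∀ a b : F, a ≠ 0 → b ≠ 0 → a ≠ b →
    ∃ ε m, rot m (cjp ε (1, 0)) = a ∧ rot m (cjp ε (0, 1)) = b ∧ rot m (cjp ε (1, 1)) = a + b ∧
      rot m (cjp ε 0) = 0 := by
  decide +kernel

theorem cases_F : ∀ x : F, x = 0 ∨ x = (1, 0) ∨ x = (0, 1) ∨ x = (1, 0) + (0, 1) := by decide +kernel

theorem exists_semilinear {g : F → F} (hadd : ∀ x y, g (x + y) = g x + g y) (hinj : Function.Injective g) :
    ∃ ε m, ∀ x, g x = rot m (cjp ε x) := by
  have h0 : g 0 = 0 := by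
    have h := hadd 0 0
    rw [add_zero] at h
    exact left_eq_add.1 h
  obtain ⟨ε, m, h1, h2, h3, h4⟩ := semilinear_of_values (g (1, 0)) (g (0, 1))
    (fun e => absurd (hinj (e.trans h0.symm)) (by decide))
    (fun e => absurd (hinj (e.trans h0.symm)) (by decide)) (fun e => absurd (hinj e) (by decide))
  refine ⟨ε, m, fun x => ?_⟩
  rcases cases_F x with rfl | rfl | rfl | rfl
  · rw [h4, h0]
  · exact h1.symm
  · exact h2.symm
  · rw [hadd]
    exact h3.symm

/-- The diagonal map. -/
def scal (s : Fin 4 → ZMod 3) (v : V) : V := fun i => rot (s i) (v i)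

/-- The exponents of sum zero. -/
def Sumz (s : Fin 4 → ZMod 3) : Prop := s 0 + s 1 + s 2 + s 3 = 0

instance : DecidablePred Sumz := fun s => inferInstanceAs (Decidable (s 0 + s 1 + s 2 + s 3 = 0))

/-- A diagonal map after a permutation. -/
def mv (s : Fin 4 → ZMod 3) (p : Fin 4 → Fin 4) (v : V) : V := fun i => rot (s i) (v (p i))

/-- The three-cycle fixing `0`. -/
def c0 : Fin 4 → Fin 4 := ![0, 2, 3, 1]

/-- The three-cycle fixing `3`. -/
def c3 : Fin 4 → Fin 4 := ![1, 2, 0, 3]

/-- Words in the two three-cycles, one for each even permutation. -/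
def words : List (List Bool) :=
  [[], [false], [true], [false, false], [false, true], [true, false], [true, true], [false, false, true],
    [false, true, true], [true, false, false], [true, true, false], [false, true, true, false]]

/-- The permutation of a word. -/
def permOf : List Bool → Fin 4 → Fin 4
  | [], i => i
  | b :: l, i => (if b then c3 else c0) (permOf l i)

/-- The twelve even permutations. -/
def perms : List (Fin 4 → Fin 4) := words.map permOf

/-- A vector of weight one. -/
def one₀ : V := ![(1, 0), 0, 0, 0]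

/-- A vector of weight two. -/
def pair : V := ![(1, 0), (1, 0), 0, 0]

/-- The exchange of the first two coordinates. -/
def sw : Fin 4 → Fin 4 := ![1, 0, 2, 3]

/-- The semilinear monomial map moving coordinate `i` to `π i`, for an involution `π`. -/
def mon (π : Fin 4 → Fin 4) (ε : Bool) (μ : Fin 4 → ZMod 3) (v : V) : V :=
  fun j => rot (μ (π j)) (cjp ε (v (π j)))

theorem scal_add (s : Fin 4 → ZMod 3) (u v : V) : scal s (u + v) = scal s u + scal s v :=
  funext fun i => rot_add _ _ _

theorem mv_eq (s : Fin 4 → ZMod 3) (p : Fin 4 → Fin 4) (v : V) : mv s p v = scal s (v ∘ p) := rfl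

theorem single_ne {i : Fin 4} {x : F} (hx : x ≠ 0) : (Pi.single i x : V) ≠ 0 := fun e => hx <| by
  simpa using congrFun e i

theorem scal_single (s : Fin 4 → ZMod 3) (i : Fin 4) (x : F) :
    scal s (Pi.single i x) = Pi.single i (rot (s i) x) := by
  funext j
  by_cases h : j = i
  · subst h; simp [scal]
  · simp [scal, h, rot_apply_zero]

theorem point_sumz : ∀ i, Sumz (1 - Pi.single i 1 : Fin 4 → ZMod 3) := by decide +kernel

theorem four_distinct_aux : ∀ a b c d : F,
    (a == 0 || b == 0 || c == 0 || d == 0 || a == b || a == c || a == d || b == c || b == d || c == d) = true := by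
  decide +kernel

theorem four_distinct (a b c d : F) (h1 : a ≠ 0) (h2 : b ≠ 0) (h3 : c ≠ 0) (h4 : d ≠ 0) (h5 : a ≠ b)
    (h6 : a ≠ c) (h7 : a ≠ d) (h8 : b ≠ c) (h9 : b ≠ d) (h10 : c ≠ d) : False := by
  have := four_distinct_aux a b c d
  simp [h1, h2, h3, h4, h5, h6, h7, h8, h9, h10] at this

theorem pair_sumz : ∀ a b, Sumz (Pi.single a 1 - Pi.single b 1 : Fin 4 → ZMod 3) := by decide +kernel

theorem sgn_inj : ∀ ε ε', sgn ε = sgn ε' → ε = ε' := by decide +kernel

/-- A linear map normalising the diagonal group is semilinear monomial. -/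
theorem exists_mon {f : V → V} (hadd : ∀ u v, f (u + v) = f u + f v) (hinv : ∀ v, f (f v) = v)
    (hn : ∀ s, Sumz s → ∃ s', Sumz s' ∧ ∀ v, f (scal s v) = scal s' (f v)) :
    ∃ π ε μ, (∀ i, π (π i) = i) ∧ ∀ v, f v = mon π ε μ v := by
  have hinj : Function.Injective f := fun u v h => by rw [← hinv u, h, hinv]
  let F' : V →+ V := AddMonoidHom.mk' f hadd
  have h0 : f 0 = 0 := F'.map_zero
  -- the image of a coordinate
  have key : ∀ i, ∃ j, ∀ x, f (Pi.single i x) = Pi.single j (f (Pi.single i x) j) := by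
    intro i
    obtain ⟨s', -, hs'⟩ := hn _ (point_sumz i)
    -- the vectors fixed by the new scalars come from the coordinate
    have back : ∀ w, scal s' w = w → ∃ x, f (Pi.single i x) = w := by
      intro w hw
      refine ⟨f w i, ?_⟩
      have h1 : scal (1 - Pi.single i 1) (f w) = f w := hinj (by rw [hs', hinv, hw])
      have h2 : Pi.single i (f w i) = f w := by
        funext k
        by_cases hk : k = i
        · subst hk; simp
        · rw [Pi.single_eq_of_ne hk]
          exact (rot_fix _ _ (congrFun h1 k) (by simp [hk])).symm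
      rw [h2, hinv]
    have forth : ∀ x, scal s' (f (Pi.single i x)) = f (Pi.single i x) := fun x => by
      rw [← hs', scal_single]
      simp [rot_zero]
    have hz : ∀ x k, s' k ≠ 0 → f (Pi.single i x) k = 0 := fun x k hk =>
      rot_fix _ _ (congrFun (forth x) k) hk
    obtain ⟨j, hj⟩ : ∃ j, s' j = 0 := by
      by_contra! hcon
      refine single_ne (i := i) (x := ((1, 0) : F)) (by decide) (hinj ?_)
      rw [h0]
      exact funext fun k => hz _ k (hcon k)
    refine ⟨j, fun x => funext fun k => ?_⟩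
    by_cases hk : k = j
    · subst hk; simp
    rw [Pi.single_eq_of_ne hk]
    refine hz x k fun hk0 => ?_
    have hfix : ∀ l, s' l = 0 → ∀ y, scal s' (Pi.single l y) = Pi.single l y := fun l hl y => by
      rw [scal_single, hl, rot_zero]
    obtain ⟨a, ha⟩ := back _ (hfix j hj (1, 0))
    obtain ⟨b, hb⟩ := back _ (hfix j hj (0, 1))
    obtain ⟨c, hc⟩ := back _ (hfix k hk0 (1, 0))
    obtain ⟨d, hd⟩ := back _ (hfix k hk0 (0, 1))
    have nz : ∀ (a : F) (l : Fin 4) (y : F), y ≠ 0 → f (Pi.single i a) = Pi.single l y → a ≠ 0 := by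
      rintro a l y hy e rfl
      rw [Pi.single_zero, h0] at e
      exact single_ne hy e.symm
    have ne : ∀ (a b : F) (l m : Fin 4) (y z : F), (Pi.single l y : V) ≠ Pi.single m z →
        f (Pi.single i a) = Pi.single l y → f (Pi.single i b) = Pi.single m z → a ≠ b := by
      rintro a b l m y z h e1 e2 rfl
      exact h (e1.symm.trans e2)
    have h2 : ∀ (l : Fin 4), (Pi.single l ((1, 0) : F) : V) ≠ Pi.single l (0, 1) := fun l e =>
      absurd (Pi.single_injective _ e) (by decide)
    have h3 : ∀ (y z : F), y ≠ 0 → (Pi.single j y : V) ≠ Pi.single k z := fun y z hy e => by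
      have := congrFun e j
      rw [Pi.single_eq_same, Pi.single_eq_of_ne (Ne.symm hk)] at this
      exact hy this
    exact four_distinct a b c d (nz a j _ (by decide) ha) (nz b j _ (by decide) hb) (nz c k _ (by decide) hc)
      (nz d k _ (by decide) hd) (ne a b j j _ _ (h2 j) ha hb) (ne a c j k _ _ (h3 _ _ (by decide)) ha hc)
      (ne a d j k _ _ (h3 _ _ (by decide)) ha hd) (ne b c j k _ _ (h3 _ _ (by decide)) hb hc)
      (ne b d j k _ _ (h3 _ _ (by decide)) hb hd) (ne c d k k _ _ (h2 k) hc hd)
  choose π hπ using key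
  have hg : ∀ i, ∃ ε m, ∀ x, f (Pi.single i x) (π i) = rot m (cjp ε x) := fun i => by
    refine exists_semilinear (fun x y => ?_) fun x y h => ?_
    · rw [Pi.single_add, hadd]; rfl
    · refine Pi.single_injective i (hinj ?_)
      rw [hπ i x, hπ i y]
      exact congrArg _ h
  choose e μ hμ using hg
  have hs : ∀ i x, f (Pi.single i x) = Pi.single (π i) (rot (μ i) (cjp (e i) x)) := fun i x => by
    rw [hπ i x, hμ i x]
  have hπ2 : ∀ i, π (π i) = i := fun i => by
    by_contra hne
    have := congrFun (hinv (Pi.single i ((1, 0) : F))) i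
    rw [hs, hs, Pi.single_eq_of_ne (Ne.symm hne), Pi.single_eq_same] at this
    exact absurd this (by decide)
  -- the semilinear type is uniform
  have he : ∀ a b, e a = e b := by
    intro a b
    by_cases hab : a = b
    · rw [hab]
    set s : Fin 4 → ZMod 3 := Pi.single a 1 - Pi.single b 1 with hsdef
    obtain ⟨s', hsum, hs'⟩ := hn s (pair_sumz a b)
    have hval : ∀ i, s' (π i) = sgn (e i) * s i := by
      intro i
      refine twist_eq (e i) (μ i) (s i) (s' (π i)) fun x => ?_
      have := congrFun (hs' (Pi.single i x)) (π i)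
      rw [scal_single, hs, hs, scal_single, Pi.single_eq_same, Pi.single_eq_same] at this
      exact this
    have hbij : Function.Bijective π := Function.bijective_iff_has_inverse.2 ⟨π, hπ2, hπ2⟩
    have hall : ∑ i, s' (π i) = 0 := by
      refine ((Equiv.ofBijective π hbij).sum_comp s').trans ?_
      rw [Fin.sum_univ_four]
      exact hsum
    simp only [hval, hsdef, Pi.sub_apply, mul_sub, Finset.sum_sub_distrib, Pi.single_apply, mul_ite, mul_one,
      mul_zero, Finset.sum_ite_eq', Finset.mem_univ, if_true, sub_eq_zero] at hall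
    exact sgn_inj _ _ hall
  refine ⟨π, e 0, μ, hπ2, fun v => ?_⟩
  have hv : f v = ∑ i, Pi.single (π i) (rot (μ i) (cjp (e i) (v i))) := by
    conv_lhs => rw [← Finset.univ_sum_single v]
    show F' _ = _
    rw [map_sum]
    exact Finset.sum_congr rfl fun i _ => hs i (v i)
  funext j
  rw [hv, Finset.sum_apply, Finset.sum_eq_single (π j)]
  · rw [hπ2, Pi.single_eq_same, he (π j) 0]
    rfl
  · intro i _ hi
    exact Pi.single_eq_of_ne (fun h => hi (by rw [h, hπ2])) _
  · exact fun h => absurd (Finset.mem_univ _) h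

theorem patterns : ∀ a b c d : Bool, (a || b || c || d) = true → ∃ p ∈ perms,
    let w : Fin 4 → Bool := fun i => ![a, b, c, d] (p i);
    (w 0 = true ∧ w 1 = false ∧ w 2 = false ∧ w 3 = false) ∨
      (w 0 = true ∧ w 1 = true ∧ w 2 = false ∧ w 3 = false) ∨ (w 1 = true ∧ w 2 = true ∧ w 3 = true) := by
  decide +kernel

theorem perms_surj : ∀ p ∈ perms, ∀ i, ∃ j, p j = i := by decide +kernel

/-- Normal forms: weight one, weight two, or three coordinates equal to one. -/
theorem exists_normal {v : V} (hv : v ≠ 0) : ∃ p ∈ perms, ∃ s, Sumz s ∧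
    (mv s p v = one₀ ∨ mv s p v = pair ∨
      mv s p v ∘ c0 = mv s p v ∧ ∀ i, i ≠ 0 → v (p i) ≠ 0) := by
  have h1 : ![decide (v 0 ≠ 0), decide (v 1 ≠ 0), decide (v 2 ≠ 0), decide (v 3 ≠ 0)] =
      fun i => decide (v i ≠ 0) := funext fun i => by fin_cases i <;> rfl
  obtain ⟨p, hp, hpat⟩ := patterns (decide (v 0 ≠ 0)) (decide (v 1 ≠ 0)) (decide (v 2 ≠ 0)) (decide (v 3 ≠ 0)) (by
    by_contra h
    simp at h
    exact hv (funext fun i => by fin_cases i <;> simp [h]))
  simp only [h1, decide_eq_true_eq, decide_eq_false_iff_not, not_not] at hpat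
  rcases hpat with ⟨a, b, c, d⟩ | ⟨a, b, c, d⟩ | ⟨b, c, d⟩
  · obtain ⟨r, hr⟩ := rot_to_one _ a
    refine ⟨p, hp, ![r, -r, 0, 0], by simp [Sumz], Or.inl (funext fun i => ?_)⟩
    fin_cases i <;> simp [mv, one₀, hr, b, c, d, rot_apply_zero]
  · obtain ⟨r, hr⟩ := rot_to_one _ a
    obtain ⟨r', hr'⟩ := rot_to_one _ b
    refine ⟨p, hp, ![r, r', -(r + r'), 0], by simp [Sumz], Or.inr (Or.inl (funext fun i => ?_))⟩
    fin_cases i <;> simp [mv, pair, hr, hr', c, d, rot_apply_zero]
  · obtain ⟨r, hr⟩ := rot_to_one _ b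
    obtain ⟨r', hr'⟩ := rot_to_one _ c
    obtain ⟨r'', hr''⟩ := rot_to_one _ d
    refine ⟨p, hp, ![-(r + r' + r''), r, r', r''], by simp [Sumz]; ring,
      Or.inr (Or.inr ⟨funext fun i => ?_, fun i hi => ?_⟩)⟩
    · fin_cases i <;> simp [mv, c0, hr, hr', hr'', Function.comp]
    · fin_cases i
      · exact absurd rfl hi
      · exact b
      · exact c
      · exact d

theorem sumz_support (a b c d : ZMod 3) (h : a + b + c + d = 0) :
    (b = 0 → c = 0 → d = 0 → a = 0) ∧ (a = 0 → c = 0 → d = 0 → b = 0) ∧ (a = 0 → b = 0 → d = 0 → c = 0) ∧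
      (a = 0 → b = 0 → c = 0 → d = 0) := by
  refine ⟨?_, ?_, ?_, ?_⟩ <;> intro h1 h2 h3 <;> simpa [h1, h2, h3] using h

/-- A vector fixed by a non-identity diagonal map has weight at most two. -/
theorem exists_normal_weight {v : V} (hv : v ≠ 0) {t : Fin 4 → ZMod 3} (ht : Sumz t) (ht0 : t ≠ 0)
    (hfix : scal t v = v) : ∃ p ∈ perms, ∃ s, Sumz s ∧
      (mv s p v = one₀ ∨ mv s p v = pair) := by
  obtain ⟨p, hp, s, hs, h | h | ⟨-, h⟩⟩ := exists_normal hv
  · exact ⟨p, hp, s, hs, Or.inl h⟩
  · exact ⟨p, hp, s, hs, Or.inr h⟩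
  exfalso
  have hz : ∀ i, i ≠ p 0 → t i = 0 := fun i hi => by
    obtain ⟨j, rfl⟩ := perms_surj p hp i
    by_contra hne
    exact h j (fun e => hi (by rw [e])) (rot_fix _ _ (congrFun hfix (p j)) hne)
  refine ht0 (funext fun i => ?_)
  by_cases hi : i = p 0
  · obtain ⟨h0, h1, h2, h3⟩ := sumz_support _ _ _ _ ht
    subst hi
    generalize p 0 = k at hz ⊢
    fin_cases k
    · exact h0 (hz 1 (by decide)) (hz 2 (by decide)) (hz 3 (by decide))
    · exact h1 (hz 0 (by decide)) (hz 2 (by decide)) (hz 3 (by decide))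
    · exact h2 (hz 0 (by decide)) (hz 1 (by decide)) (hz 3 (by decide))
    · exact h3 (hz 0 (by decide)) (hz 1 (by decide)) (hz 2 (by decide))
  · exact hz i hi

/-- The criterion for an even monomial map to centralise a monomial involution. -/
def commB (π : Fin 4 → Fin 4) (ε : Bool) (μ s : Fin 4 → ZMod 3) (p : Fin 4 → Fin 4) : Bool :=
  (List.finRange 4).all fun j => π (p j) == p (π j) && s j + μ (π (p j)) == μ (π j) + sgn ε * s (π j)

theorem mv_comm {π : Fin 4 → Fin 4} {ε : Bool} {μ s : Fin 4 → ZMod 3} {p : Fin 4 → Fin 4}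
    (h : commB π ε μ s p = true) (v : V) : mv s p (mon π ε μ v) = mon π ε μ (mv s p v) := funext fun j => by
  obtain ⟨h1, h2⟩ := (by simpa [commB] using h : ∀ j, π (p j) = p (π j) ∧ _) j
  rw [h1] at h2
  simp only [mv, mon, cjp_rot, rot_rot, h2, h1]

/-- The criterion for order three. -/
def threeB (s : Fin 4 → ZMod 3) (p : Fin 4 → Fin 4) : Bool :=
  ((List.finRange 4).all fun j => p (p (p j)) == j && s j + s (p j) + s (p (p j)) == 0) &&
    (List.finRange 4).any fun j => !(p j == j && s j == 0)

theorem mv_ne_id : ∀ (r : ZMod 3) (j k : Fin 4), ¬ (k = j ∧ r = 0) →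
    ∃ x : F, rot r ((Pi.single j x : V) k) ≠ x := by decide +kernel

theorem mv_three {s : Fin 4 → ZMod 3} {p : Fin 4 → Fin 4} (h : threeB s p = true) :
    (∀ v, mv s p (mv s p (mv s p v)) = v) ∧ ∃ v, mv s p v ≠ v := by
  simp only [threeB, Bool.and_eq_true, List.all_eq_true, List.any_eq_true, List.mem_finRange, true_imp_iff,
    true_and, beq_iff_eq, Bool.not_eq_true', Bool.and_eq_false_imp, beq_eq_false_iff_ne] at h
  obtain ⟨h1, j, hj⟩ := h
  refine ⟨fun v => funext fun i => ?_, ?_⟩
  · simp only [mv, rot_rot, ← add_assoc, (h1 i).1, (h1 i).2, rot_zero]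
  · obtain ⟨x, hx⟩ := mv_ne_id (s j) j (p j) fun e => hj e.1 e.2
    exact ⟨Pi.single j x, fun e => hx (by simpa [mv] using congrFun e j)⟩

/-- The criterion for an even monomial map to move a monomial involution to the exchange. -/
def toSwB (π : Fin 4 → Fin 4) (μ s : Fin 4 → ZMod 3) (p : Fin 4 → Fin 4) : Bool :=
  (List.finRange 4).all fun j => π (p j) == p (sw j) && s j + μ (π (p j)) == s (sw j)

theorem mv_toSw {π : Fin 4 → Fin 4} {μ s : Fin 4 → ZMod 3} {p : Fin 4 → Fin 4} (h : toSwB π μ s p = true)
    (v : V) : mv s p (mon π false μ v) = mv s p v ∘ sw := funext fun j => by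
  obtain ⟨h1, h2⟩ := (by simpa [toSwB] using h : ∀ j, π (p j) = p (sw j) ∧ _) j
  rw [h1] at h2
  simp only [mv, mon, cjp, if_false, Bool.false_eq_true, Function.comp, rot_rot, h2, h1]

/-- Exponents of sum zero. -/
def sums : List (Fin 4 → ZMod 3) :=
  ([0, 1, 2] : List (ZMod 3)).flatMap fun a => ([0, 1, 2] : List (ZMod 3)).flatMap fun b =>
    ([0, 1, 2] : List (ZMod 3)).map fun c => ![-(a + b + c), a, b, c]

theorem sums_sumz : ∀ s ∈ sums, Sumz s := by decide +kernel

/-- All functions on four letters. -/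
def vecs {α : Type} (l : List α) : List (Fin 4 → α) :=
  l.flatMap fun a => l.flatMap fun b => l.flatMap fun c => l.map fun d => ![a, b, c, d]

theorem mem_vecs {α : Type} {l : List α} (hl : ∀ x, x ∈ l) (f : Fin 4 → α) : f ∈ vecs l := by
  simp only [vecs, List.mem_flatMap, List.mem_map]
  exact ⟨f 0, hl _, f 1, hl _, f 2, hl _, f 3, hl _, funext fun i => by fin_cases i <;> rfl⟩

/-- Either the involution is not the exchange of two coordinates and is centralised by an element of order
three, or it is moved to the exchange, or it is the identity. -/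
def classB (π : Fin 4 → Fin 4) (ε : Bool) (μ : Fin 4 → ZMod 3) : Bool :=
  if ε || (List.finRange 4).all fun i => !(π i == i) then
    perms.any fun p => sums.any fun s => threeB s p && commB π ε μ s p
  else ((List.finRange 4).all fun i => π i == i && μ i == 0) ||
    perms.any fun p => sums.any fun s => toSwB π μ s p

/-- The condition for a monomial map to be an involution. -/
def involB (π : Fin 4 → Fin 4) (ε : Bool) (μ : Fin 4 → ZMod 3) : Bool :=
  (List.finRange 4).all fun i => π (π i) == i && μ (π i) + sgn ε * μ i == 0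

theorem classB_all : (vecs (List.finRange 4)).all (fun π => !((List.finRange 4).all fun i => π (π i) == i) ||
    [false, true].all fun ε => (vecs ([0, 1, 2] : List (ZMod 3))).all fun μ =>
      !involB π ε μ || classB π ε μ) = true := by
  decide +kernel

theorem rot_cjp_id : ∀ m ε, (∀ x, rot m (cjp ε x) = x) → m = 0 := by decide +kernel

theorem involB_of {π : Fin 4 → Fin 4} {ε : Bool} {μ : Fin 4 → ZMod 3} (hπ : ∀ i, π (π i) = i)
    (h : ∀ v, mon π ε μ (mon π ε μ v) = v) : involB π ε μ = true := by
  simp only [involB, List.all_eq_true, Bool.and_eq_true, beq_iff_eq, List.mem_finRange, true_imp_iff]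
  intro i
  refine ⟨hπ i, ?_⟩
  have hcj : ∀ ε x, cjp ε (cjp ε x) = x := by decide +kernel
  refine rot_cjp_id _ false fun x => ?_
  have := congrFun (h (Pi.single i x)) i
  simp only [mon, cjp_rot, rot_rot, hπ, Pi.single_eq_same, hcj] at this
  simpa [cjp] using this

theorem mem_z3 : ∀ x : ZMod 3, x ∈ ([0, 1, 2] : List (ZMod 3)) := by decide +kernel

theorem semilinear_root : ∀ m x, rot m (cjp true x) = x → ∃ b, rot m (cjp true b) + b = x := by decide +kernel

/-- A monomial involution is transitive on its coset and centralised by an element of order three, or is the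
exchange up to an even monomial map, or the identity. -/
theorem mon_cases {π : Fin 4 → Fin 4} {ε : Bool} {μ : Fin 4 → ZMod 3} (hπ : ∀ i, π (π i) = i)
    (h : ∀ v, mon π ε μ (mon π ε μ v) = v) :
    ((∀ v, mon π ε μ v = v → ∃ b, mon π ε μ b + b = v) ∧ ∃ p ∈ perms, ∃ s, Sumz s ∧
      (∀ v, mv s p (mv s p (mv s p v)) = v) ∧ (∃ v, mv s p v ≠ v) ∧
      ∀ v, mv s p (mon π ε μ v) = mon π ε μ (mv s p v)) ∨
    (∃ p ∈ perms, ∃ s, Sumz s ∧ ∀ v, mv s p (mon π ε μ v) = mv s p v ∘ sw) ∨
    ∀ v, mon π ε μ v = v := by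
  have hinv := involB_of hπ h
  have hall := List.all_eq_true.1 classB_all π (mem_vecs List.mem_finRange π)
  simp only [hπ, beq_self_eq_true, List.all_eq_true, implies_true, Bool.or_eq_true, Bool.not_eq_true',
    Bool.eq_false_iff, ne_eq, not_true_eq_false, false_or] at hall
  have hc := (hall ε (by cases ε <;> simp) μ (mem_vecs mem_z3 μ)).resolve_left (not_not.2 hinv)
  unfold classB at hc
  split_ifs at hc with hb
  · simp only [List.any_eq_true, Bool.and_eq_true] at hc
    obtain ⟨p, hp, s, hs, h3, hcm⟩ := hc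
    refine Or.inl ⟨fun v hv => ?_, p, hp, s, sums_sumz s hs, (mv_three h3).1, (mv_three h3).2, mv_comm hcm⟩
    have hfx : ∀ j, π j = j → ε = true := fun j hj => by
      simp only [Bool.or_eq_true, List.all_eq_true, List.mem_finRange, true_imp_iff, Bool.not_eq_true',
        beq_eq_false_iff_ne] at hb
      exact hb.resolve_right fun hne => hne j hj
    have hroot : ∀ j, ∃ b : F, π j = j → rot (μ j) (cjp ε b) + b = v j := fun j => by
      by_cases hj : π j = j
      · have := congrFun hv j
        rw [show mon π ε μ v j = rot (μ (π j)) (cjp ε (v (π j))) from rfl, hj, hfx j hj] at this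
        obtain ⟨b, hb⟩ := semilinear_root _ _ this
        exact ⟨b, fun _ => by rw [hfx j hj]; exact hb⟩
      · exact ⟨0, fun e => absurd e hj⟩
    choose b hb' using hroot
    refine ⟨fun j => if π j = j then b j else if j < π j then v j else 0, funext fun j => ?_⟩
    simp only [Pi.add_apply, mon, hπ]
    rcases lt_trichotomy j (π j) with hlt | he | hgt
    · rw [if_neg (ne_of_lt hlt), if_neg (not_lt.2 hlt.le), if_neg (ne_of_gt hlt), if_pos hlt,
        show cjp ε (0 : F) = 0 by cases ε <;> rfl, rot_apply_zero, zero_add]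
    · simp only [← he, if_true]
      exact hb' j he.symm
    · rw [if_neg (ne_of_gt hgt), if_pos hgt, if_neg (ne_of_lt hgt), if_neg (not_lt.2 hgt.le), add_zero]
      exact congrFun hv j
  · simp only [List.any_eq_true, Bool.or_eq_true, List.all_eq_true, Bool.and_eq_true, beq_iff_eq,
      List.mem_finRange, true_imp_iff] at hc
    have he : ε = false := by
      cases ε
      · rfl
      · simp at hb
    subst he
    rcases hc with hid | ⟨p, hp, s, hs, h'⟩
    · exact Or.inr (Or.inr fun v => funext fun j => by simp [mon, (hid j).1, (hid j).2, cjp, rot_zero])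
    · exact Or.inr (Or.inl ⟨p, hp, s, sums_sumz s hs, mv_toSw h'⟩)

end Cfsg.Agent.CoTwoThree.Mono
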