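/-
Strong closure of `A = F₄⁴` in its normaliser, from a monomial frame.

* `Frame` : the coordinates, the diagonal group, two three-cycles, a conjugation to a diagonal element, and
  the fact that an involution modulo `A` normalises a conjugate of the diagonal group;
* `Frame.classes` : the involutions outside `A`;
* `Frame.closed` : with `Meet`, every conjugate in `H` of an element of `A` lies in `A`.

The module is not identified: the classes of involutions come out of the monomial group alone.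
-/
import Cfsg.Agent.Lib.CoTwoThree.Fusion
import Cfsg.Agent.Lib.CoTwoThree.Monomial

set_option autoImplicit false

namespace Cfsg.Agent.CoTwoThree

open Mono
open U62Module (Rich orderOf_conj')

variable {X : Type*} [Group X]

/-- The monomial frame. -/
structure Frame (A H : Subgroup X) where
  φ : V → X
  φ_mem : ∀ v, φ v ∈ A
  φ_add : ∀ u v, φ (u + v) = φ u * φ v
  φ_inj : Function.Injective φ
  φ_surj : ∀ a ∈ A, ∃ v, φ v = a
  normalizer : H = Subgroup.normalizer (A : Set X)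
  cent : ∀ h ∈ H, (∀ a ∈ A, Commute h a) → h ∈ A
  diag : ∀ s, Sumz s → ∃ h ∈ H, ∀ v, h * φ v * h⁻¹ = φ (scal s v)
  cyc₀ : ∃ h ∈ H, ∀ v, h * φ v * h⁻¹ = φ (v ∘ c0)
  cyc₃ : ∃ h ∈ H, ∀ v, h * φ v * h⁻¹ = φ (v ∘ c3)
  move : ∃ g ∈ H, ∃ s, Sumz s ∧ s ≠ 0 ∧
    ∀ v, v ∘ c0 = v → ∃ w, scal s w = w ∧ g * φ v * g⁻¹ = φ w
  not17 : ¬ 17 ∣ Nat.card H
  inv : ∀ t ∈ H, t ∉ A → t * t ∈ A → ∃ g ∈ H, ∀ s, Sumz s → ∃ s', Sumz s' ∧ ∀ v w,
    (g * t * g⁻¹) * φ v * (g * t * g⁻¹)⁻¹ = φ w →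
      (g * t * g⁻¹) * φ (scal s v) * (g * t * g⁻¹)⁻¹ = φ (scal s' w)

namespace Frame

variable {A H : Subgroup X} (Φ : Frame A H)

theorem φ_zero : Φ.φ 0 = 1 := by
  have h := Φ.φ_add 0 0
  rw [add_zero] at h
  exact left_eq_mul.1 h

theorem φ_eq_one {v : V} : Φ.φ v = 1 ↔ v = 0 :=
  ⟨fun h => Φ.φ_inj (h.trans Φ.φ_zero.symm), fun h => h ▸ Φ.φ_zero⟩

theorem φ_sq (v : V) : Φ.φ v * Φ.φ v = 1 := by
  have h0 : ∀ x : F, x + x = 0 := by decide +kernel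
  rw [← Φ.φ_add, show v + v = 0 from funext fun i => h0 (v i), Φ.φ_zero]

include Φ in
theorem sq {a : X} (ha : a ∈ A) : a * a = 1 := by
  obtain ⟨v, rfl⟩ := Φ.φ_surj a ha
  exact Φ.φ_sq v

theorem φ_comm (u v : V) : Commute (Φ.φ u) (Φ.φ v) := by
  show _ * _ = _ * _
  rw [← Φ.φ_add, add_comm, Φ.φ_add]

include Φ in
theorem comm {a b : X} (ha : a ∈ A) (hb : b ∈ A) : Commute a b := by
  obtain ⟨u, rfl⟩ := Φ.φ_surj a ha
  obtain ⟨v, rfl⟩ := Φ.φ_surj b hb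
  exact Φ.φ_comm u v

include Φ in
theorem A_le : A ≤ H := Φ.normalizer ▸ Subgroup.le_normalizer

include Φ in
theorem conj_A {h : X} (hh : h ∈ H) {a : X} (ha : a ∈ A) : h * a * h⁻¹ ∈ A := by
  rw [Φ.normalizer] at hh
  exact (Subgroup.mem_normalizer_iff.1 hh a).1 ha

/-- `h` acts on `A` as `f`. -/
def Acts (h : X) (f : V → V) : Prop := ∀ v, h * Φ.φ v * h⁻¹ = Φ.φ (f v)

theorem acts_one : Φ.Acts 1 id := fun v => by simp

theorem Acts.mul {h k : X} {f g : V → V} (hf : Φ.Acts h f) (hg : Φ.Acts k g) : Φ.Acts (h * k) (f ∘ g) :=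
  fun v => by rw [show h * k * Φ.φ v * (h * k)⁻¹ = h * (k * Φ.φ v * k⁻¹) * h⁻¹ by group, hg v, hf]; rfl

theorem Acts.pow {h : X} {f : V → V} (hf : Φ.Acts h f) : ∀ n : ℕ, Φ.Acts (h ^ n) (f^[n])
  | 0 => by simpa using Φ.acts_one
  | n + 1 => by rw [pow_succ, Function.iterate_succ]; exact (Acts.pow hf n).mul Φ hf

theorem Acts.unique {h : X} {f g : V → V} (hf : Φ.Acts h f) (hg : Φ.Acts h g) (v : V) : f v = g v :=
  Φ.φ_inj ((hf v).symm.trans (hg v))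

theorem exists_acts {h : X} (hh : h ∈ H) : ∃ f, Φ.Acts h f := by
  choose f hf using fun v => Φ.φ_surj _ (Φ.conj_A hh (Φ.φ_mem v))
  exact ⟨f, fun v => (hf v).symm⟩

theorem Acts.add {h : X} {f : V → V} (hf : Φ.Acts h f) (u v : V) : f (u + v) = f u + f v :=
  Φ.φ_inj (by rw [← hf, Φ.φ_add, Φ.φ_add, ← hf, ← hf]; group)

theorem acts_A {a : X} (ha : a ∈ A) : Φ.Acts a id := fun v => by
  rw [id_eq, (Φ.comm ha (Φ.φ_mem v)).eq, mul_inv_cancel_right]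

theorem mem_A {h : X} (hh : h ∈ H) {f : V → V} (hf : Φ.Acts h f) (hid : ∀ v, f v = v) : h ∈ A := by
  refine Φ.cent h hh fun a ha => ?_
  obtain ⟨v, rfl⟩ := Φ.φ_surj a ha
  exact mul_inv_eq_iff_eq_mul.1 ((hf v).trans (by rw [hid]))

theorem commute_of_fix {h : X} {f : V → V} (hf : Φ.Acts h f) {v : V} (hv : f v = v) : Commute h (Φ.φ v) :=
  mul_inv_eq_iff_eq_mul.1 ((hf v).trans (by rw [hv]))

/-- The fourth power of a lift of an element of order three has order three and the same action. -/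
theorem pow_four {h : X} (hh : h ∈ H) {f : V → V} (hf : Φ.Acts h f) (h3 : ∀ v, f (f (f v)) = v)
    (h1 : ∃ v, f v ≠ v) : orderOf (h ^ 4) = 3 ∧ Φ.Acts (h ^ 4) f := by
  have hA : h ^ 3 ∈ A := Φ.mem_A (H.pow_mem hh 3) (hf.pow Φ 3) h3
  have h6 : h ^ 6 = 1 := by
    rw [show (6 : ℕ) = 3 + 3 from rfl, pow_add]
    exact Φ.sq hA
  refine ⟨?_, fun v => ?_⟩
  · haveI : Fact (Nat.Prime 3) := ⟨by norm_num⟩
    refine orderOf_eq_prime ?_ fun e => ?_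
    · rw [← pow_mul, show 4 * 3 = 6 * 2 from rfl, pow_mul, h6, one_pow]
    · have : h ∈ A := by
        have e' : h = (h ^ 3)⁻¹ := by
          rw [eq_inv_iff_mul_eq_one, ← pow_succ']
          exact e
        rw [e']; exact A.inv_mem hA
      obtain ⟨v, hv⟩ := h1
      exact hv (hf.unique Φ (Φ.acts_A this) v)
  · rw [(hf.pow Φ 4) v]
    exact congrArg _ (congrArg f (h3 v))

theorem acts_perm : ∀ l : List Bool, ∃ h ∈ H, Φ.Acts h (· ∘ permOf l)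
  | [] => ⟨1, H.one_mem, fun v => by
      rw [one_mul, inv_one, mul_one]; rfl⟩
  | b :: l => by
    obtain ⟨h, hh, hf⟩ := acts_perm l
    obtain ⟨k, hk, hg⟩ : ∃ k ∈ H, Φ.Acts k (· ∘ (if b then c3 else c0)) := by
      cases b
      · exact Φ.cyc₀
      · exact Φ.cyc₃
    exact ⟨h * k, H.mul_mem hh hk, hf.mul Φ hg⟩

theorem acts_mv {p : Fin 4 → Fin 4} (hp : p ∈ perms) {s : Fin 4 → ZMod 3} (hs : Sumz s) :
    ∃ h ∈ H, Φ.Acts h (mv s p) := by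
  obtain ⟨l, -, rfl⟩ := List.mem_map.1 hp
  obtain ⟨h, hh, hf⟩ := Φ.acts_perm l
  obtain ⟨k, hk, hg⟩ := Φ.diag s hs
  exact ⟨k * h, H.mul_mem hk hh, fun v => (Acts.mul Φ (f := scal s) hg hf) v⟩

/-- Two orbits. -/
theorem exists_orbit {v : V} (hv : v ≠ 0) : ∃ h ∈ H, ∃ f, Φ.Acts h f ∧ (f v = one₀ ∨ f v = pair) := by
  obtain ⟨p, hp, s, hs, hc⟩ := exists_normal hv
  obtain ⟨h, hh, hf⟩ := Φ.acts_mv hp hs
  rcases hc with hc | hc | ⟨hc, -⟩
  · exact ⟨h, hh, _, hf, Or.inl hc⟩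
  · exact ⟨h, hh, _, hf, Or.inr hc⟩
  obtain ⟨g, hg, t, ht, ht0, hmove⟩ := Φ.move
  obtain ⟨w, hw, hgw⟩ := hmove _ hc
  obtain ⟨fg, hfg⟩ := Φ.exists_acts hg
  have hwe : fg (mv s p v) = w := Φ.φ_inj ((hfg _).symm.trans hgw)
  have hw0 : w ≠ 0 := fun e => hv <| by
    rw [e] at hgw
    rw [Φ.φ_zero, conj_eq_one_iff, ← hf v, conj_eq_one_iff, Φ.φ_eq_one] at hgw
    exact hgw
  obtain ⟨q, hq, r, hr, hc'⟩ := exists_normal_weight hw0 ht ht0 hw
  obtain ⟨k, hk, hfk⟩ := Φ.acts_mv hq hr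
  refine ⟨k * (g * h), H.mul_mem hk (H.mul_mem hg hh), _, hfk.mul Φ (hfg.mul Φ hf), ?_⟩
  simp only [Function.comp, hwe]
  exact hc'

include Φ in
theorem rich {a : X} (ha : a ∈ A) (ha1 : a ≠ 1) : Rich H a := by
  obtain ⟨v, rfl⟩ := Φ.φ_surj a ha
  obtain ⟨h, hh, f, hf, hv⟩ := Φ.exists_orbit (fun e => ha1 (Φ.φ_eq_one.2 e))
  have key : ∀ s, Sumz s → (∃ u, scal s u ≠ u) → (∀ u, scal s (scal s (scal s u)) = u) → ∀ w, scal s w = w →
      Rich H (Φ.φ w) := fun s hs h1 h3 w hw => by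
    obtain ⟨x, hx, hfx⟩ := Φ.diag s hs
    obtain ⟨ho, hfx'⟩ := Φ.pow_four hx hfx h3 h1
    exact ⟨x ^ 4, H.pow_mem hx 4, ho, Φ.commute_of_fix hfx' hw⟩
  have h3 : ∀ (s : Fin 4 → ZMod 3) u, scal s (scal s (scal s u)) = u := fun s u => funext fun i => by
    have h : ∀ r : ZMod 3, r + (r + r) = 0 := by decide +kernel
    simp only [scal, rot_rot, h, rot_zero]
  have hr : Rich H (Φ.φ (f v)) := by
    have hs : Sumz (![0, 0, 1, -1] : Fin 4 → ZMod 3) := by decide +kernel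
    refine key _ hs ⟨![0, 0, (1, 0), 0], by decide +kernel⟩ (h3 _) _ ?_
    rcases hv with e | e <;> rw [e] <;> decide +kernel
  have := hr.conj (H.inv_mem hh)
  rwa [← hf v, inv_inv, show h⁻¹ * (h * Φ.φ v * h⁻¹) * h = Φ.φ v by group] at this

/-- The two orbits differ. -/
theorem one₀_ne_pair {h : X} (hh : h ∈ H) {f : V → V} (hf : Φ.Acts h f) : f one₀ ≠ pair := by
  classical
  intro he
  choose act hact using fun k : H => Φ.exists_acts k.2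
  letI : MulAction ↥H V :=
    { smul := fun k v => act k v
      one_smul := fun v => (hact 1).unique Φ Φ.acts_one v
      mul_smul := fun k l v => (hact (k * l)).unique Φ ((hact k).mul Φ (hact l)) v }
  have horb : MulAction.orbit ↥H one₀ = {v : V | v ≠ 0} := by
    ext v
    constructor
    · rintro ⟨k, rfl⟩ (e : act k one₀ = 0)
      have := hact k one₀
      rw [e, Φ.φ_zero, conj_eq_one_iff, Φ.φ_eq_one] at this
      exact absurd this (by decide +kernel)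
    · intro hv
      obtain ⟨k, hk, g, hg, hc⟩ := Φ.exists_orbit hv
      have e : (⟨k, hk⟩ : H) • v = g v := (hact _).unique Φ hg v
      rw [← MulAction.mem_orbit_symm]
      rcases hc with hc | hc
      · exact ⟨⟨k, hk⟩, e.trans hc⟩
      · refine ⟨⟨h, hh⟩⁻¹ * ⟨k, hk⟩, ?_⟩
        show (⟨h, hh⟩⁻¹ * ⟨k, hk⟩ : H) • v = one₀
        rw [mul_smul, e, hc, inv_smul_eq_iff]
        exact he.symm.trans ((hact ⟨h, hh⟩).unique Φ hf one₀).symm
  have hcard : Nat.card (MulAction.orbit ↥H one₀) = 15 * 17 := by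
    rw [horb, Nat.card_eq_fintype_card]
    decide +kernel
  refine Φ.not17 ⟨15 * Nat.card (MulAction.stabilizer ↥H one₀), ?_⟩
  rw [← Nat.card_congr (MulAction.orbitProdStabilizerEquivGroup ↥H one₀), Nat.card_prod, hcard]
  ring

/-- The exchange of the first two coordinates, as an action. -/
def IsSw (t : X) : Prop := Φ.Acts t (· ∘ sw)

theorem sw_facts : (∀ v : V, (v ∘ sw) ∘ sw = v) ∧ ∃ v : V, v ∘ sw ≠ v := by decide +kernel

theorem rich_shift {t : X} {x : X} (hx : x ∈ H) (ho : orderOf x = 3) (ht : Commute x t) {v : V} {f : V → V}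
    (hf : Φ.Acts x f) (hv : f v = v) : Rich H (t * Φ.φ v) :=
  ⟨x, hx, ho, ht.mul_right (Φ.commute_of_fix hf hv)⟩

theorem conj_shift {t x : X} (ht : Commute x t) {f : V → V} (hf : Φ.Acts x f) (v : V) :
    x * (t * Φ.φ v) * x⁻¹ = t * Φ.φ (f v) := by
  rw [← hf v, show x * (t * Φ.φ v) * x⁻¹ = x * t * Φ.φ v * x⁻¹ by group, ht.eq]
  group

/-- Conjugating a coset of `A` inside itself. -/
theorem shift_eq {t : X} {f : V → V} (hf : Φ.Acts t f) (hinv : ∀ v, f (f v) = v) (b c : V) :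
    Φ.φ b * (t * Φ.φ c) * (Φ.φ b)⁻¹ = t * Φ.φ (f b + c + b) := by
  have h1 : Φ.φ b * t = t * Φ.φ (f b) := by
    have := hf (f b)
    rw [hinv] at this
    rw [← this, inv_mul_cancel_right]
  rw [inv_eq_of_mul_eq_one_left (Φ.φ_sq b), ← mul_assoc (Φ.φ b) t, h1, Φ.φ_add, Φ.φ_add]
  group

theorem involution_of_coset {t t' : X} (hf : t ∈ H) (hf' : t' ∈ H) {f : V → V} (ha : Φ.Acts t f)
    (ha' : Φ.Acts t' f) (hinv : ∀ v, f (f v) = v) (h2 : t * t = 1) (h2' : t' * t' = 1) :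
    ∃ c, f c = c ∧ t' = t * Φ.φ c := by
  obtain ⟨c, hc⟩ := Φ.φ_surj (t⁻¹ * t') (Φ.mem_A (H.mul_mem (H.inv_mem hf) hf')
    (f := f ∘ f) (by rw [inv_eq_of_mul_eq_one_left h2]; exact ha.mul Φ ha') hinv)
  refine ⟨c, ?_, by rw [hc, mul_inv_cancel_left]⟩
  have h := ha c
  rw [inv_eq_of_mul_eq_one_left h2] at h
  rw [show t * Φ.φ c * t = (t * Φ.φ c) * t' * (t'⁻¹ * t) by group,
    show t * Φ.φ c = t' by rw [hc, mul_inv_cancel_left], h2', one_mul,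
    show t'⁻¹ * t = (t⁻¹ * t')⁻¹ by group, ← hc, inv_eq_of_mul_eq_one_left (Φ.φ_sq c)] at h
  exact (Φ.φ_inj h).symm

variable [Finite X]

/-- An involution outside `A` with another action than the exchange is rich, or is moved to the exchange. -/
theorem cases_sw {t : X} (ht : t ∈ H) (htA : t ∉ A) (ht2 : t * t = 1) :
    Rich H t ∨ ∃ h ∈ H, Φ.IsSw (h * t * h⁻¹) := by
  obtain ⟨g, hg, hmon⟩ := Φ.inv t ht htA (ht2 ▸ A.one_mem)
  set t' := g * t * g⁻¹ with ht'def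
  have ht' : t' ∈ H := H.mul_mem (H.mul_mem hg ht) (H.inv_mem hg)
  have ht'2 : t' * t' = 1 := by
    rw [ht'def, show g * t * g⁻¹ * (g * t * g⁻¹) = g * (t * t) * g⁻¹ by group, ht2, mul_one, mul_inv_cancel]
  obtain ⟨f, hf⟩ := Φ.exists_acts ht'
  have hinv : ∀ v, f (f v) = v := fun v =>
    (hf.mul Φ hf).unique Φ (g := id) (by rw [ht'2]; exact Φ.acts_one) v
  obtain ⟨π, ε, μ, hπ, hfm⟩ := exists_mon (hf.add Φ) hinv fun s hs => by
    obtain ⟨s', hs', hcs⟩ := hmon s hs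
    exact ⟨s', hs', fun v => Φ.φ_inj ((hf _).symm.trans (hcs v (f v) (hf v)))⟩
  rcases mon_cases hπ (fun v => by rw [← hfm, ← hfm, hinv]) with ⟨htr, p, hp, s, hs, h3, h1, hcm⟩ |
    ⟨p, hp, s, hs, hsw⟩ | hid
  · left
    obtain ⟨k, hk, hkf⟩ := Φ.acts_mv hp hs
    obtain ⟨ho, hxf⟩ := Φ.pow_four hk hkf h3 h1
    set x := k ^ 4
    have hx : x ∈ H := H.pow_mem hk 4
    -- the conjugate of `t'` in its coset
    have hct : Φ.Acts (x * t' * x⁻¹) f := fun v => by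
      obtain ⟨w, rfl⟩ : ∃ w, mv s p w = v := ⟨_, h3 v⟩
      rw [← hxf w, show x * t' * x⁻¹ * (x * Φ.φ w * x⁻¹) * (x * t' * x⁻¹)⁻¹ =
        x * (t' * Φ.φ w * t'⁻¹) * x⁻¹ by group, hf w, hxf, hfm, hfm, hcm]
    obtain ⟨c, hc, hxt⟩ := Φ.involution_of_coset ht' (H.mul_mem (H.mul_mem hx ht') (H.inv_mem hx)) hf hct
      hinv ht'2 (by
        rw [show x * t' * x⁻¹ * (x * t' * x⁻¹) = x * (t' * t') * x⁻¹ by group, ht'2, mul_one, mul_inv_cancel])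
    obtain ⟨b, hb⟩ := htr c (by rw [← hfm, hc])
    rw [← hfm] at hb
    -- an element of order three in the coset of `x` commutes with it
    set y := (Φ.φ b)⁻¹ * x with hy
    have hbx : y ∈ H := H.mul_mem (H.inv_mem (Φ.A_le (Φ.φ_mem b))) hx
    have hyt : Commute y t' := by
      have e := Φ.shift_eq hf hinv b 0
      rw [Φ.φ_zero, mul_one, add_zero, hb, ← hxt] at e
      have h : y * t' * y⁻¹ = t' := by
        rw [hy, show (Φ.φ b)⁻¹ * x * t' * ((Φ.φ b)⁻¹ * x)⁻¹ = (Φ.φ b)⁻¹ * (x * t' * x⁻¹) * Φ.φ b by group, ← e]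
        group
      exact mul_inv_eq_iff_eq_mul.1 h
    have hyf : Φ.Acts y (mv s p) := fun v => by
      rw [hy, show (Φ.φ b)⁻¹ * x * Φ.φ v * ((Φ.φ b)⁻¹ * x)⁻¹ = (Φ.φ b)⁻¹ * (x * Φ.φ v * x⁻¹) * Φ.φ b by group,
        hxf v, mul_assoc, (Φ.φ_comm _ b).eq, inv_mul_cancel_left]
    obtain ⟨ho', -⟩ := Φ.pow_four hbx hyf h3 h1
    have := (show Rich H t' from ⟨y ^ 4, H.pow_mem hbx 4, ho', hyt.pow_left 4⟩).conj (H.inv_mem hg)
    rwa [ht'def, inv_inv, show g⁻¹ * (g * t * g⁻¹) * g = t by group] at this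
  · right
    obtain ⟨k, hk, hkf⟩ := Φ.acts_mv hp hs
    refine ⟨k * g, H.mul_mem hk hg, fun v => ?_⟩
    obtain ⟨fk, hfk⟩ := Φ.exists_acts (H.inv_mem hk)
    have hkk : mv s p (fk v) = v := (hkf.mul Φ hfk).unique Φ (g := id) (by rw [mul_inv_cancel]; exact Φ.acts_one) v
    rw [show k * g * t * (k * g)⁻¹ * Φ.φ v * (k * g * t * (k * g)⁻¹)⁻¹ =
      k * (g * t * g⁻¹ * (k⁻¹ * Φ.φ v * k⁻¹⁻¹) * (g * t * g⁻¹)⁻¹) * k⁻¹ by group, hfk v, ← ht'def, hf, hkf,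
      hfm, hsw, hkk]
  · refine absurd (Φ.mem_A ht' hf fun v => by rw [hfm, hid]) fun h => htA ?_
    have := Φ.conj_A (H.inv_mem hg) h
    rwa [ht'def, inv_inv, show g⁻¹ * (g * t * g⁻¹) * g = t by group] at this

/-- A vector with the given last two coordinates. -/
def tail (b d : F) : V := ![0, 0, b, d]

theorem vec_facts :
    (∀ v : V, v ∘ sw = v → v = ![v 0, v 0, v 2, v 3]) ∧
    (∀ a b d : F, (![a, a, b, d] : V) ∘ sw = ![a, a, b, d]) ∧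
    Sumz (![0, 0, 1, -1] : Fin 4 → ZMod 3) ∧ Sumz (![1, 1, 0, 1] : Fin 4 → ZMod 3) := by
  refine ⟨fun v h => funext fun i => ?_, fun a b d => funext fun i => ?_, by decide +kernel, by decide +kernel⟩
  · fin_cases i
    · rfl
    · exact congrFun h 0
    · rfl
    · rfl
  · fin_cases i <;> rfl

theorem scal_x : ∀ a a' b d : F, scal ![0, 0, 1, -1] ![a, a', b, d] = ![a, a', rot 1 b, rot (-1) d] := fun a a' b d =>
  funext fun i => by fin_cases i <;> simp [scal, rot_zero]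

theorem scal_y : ∀ a a' b d : F, scal ![1, 1, 0, 1] ![a, a', b, d] = ![rot 1 a, rot 1 a', b, rot 1 d] :=
  fun a a' b d => funext fun i => by fin_cases i <;> simp [scal, rot_zero]

theorem rot_solve : ∀ c : F, ∃ x : F, c + rot 1 x = x := by decide +kernel

theorem rot_solve' : ∀ c : F, ∃ x : F, c + rot (-1) x = x := by decide +kernel

theorem three_self : ∀ x : F, x + x + x = 0 → x = 0 := by decide +kernel

theorem rot_sum : ∀ x : F, x + rot 1 x + rot 1 (rot 1 x) = 0 := by decide +kernel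

/-- In the coset of the exchange an element of order nine fixes an origin. -/
theorem exists_origin {t : X} (ht : t ∈ H) (htsw : Φ.IsSw t) (ht2 : t * t = 1) :
    ∃ (t₂ x y z : X), t₂ ∈ H ∧ Φ.IsSw t₂ ∧ t₂ * t₂ = 1 ∧
      (x ∈ H ∧ orderOf x = 3 ∧ Commute x t₂ ∧ Φ.Acts x (scal ![0, 0, 1, -1])) ∧
      (y ∈ H ∧ orderOf y = 3 ∧ Commute y t₂ ∧ Φ.Acts y (scal ![1, 1, 0, 1])) ∧
      (z ∈ H ∧ orderOf z = 3 ∧ Commute z t₂ ∧ Φ.Acts z (scal ![1, 1, 1, 0])) := by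
  obtain ⟨-, hpair, hsx, hsy⟩ := vec_facts
  have hinv := sw_facts.1
  have h3 : ∀ (s : Fin 4 → ZMod 3) u, scal s (scal s (scal s u)) = u := fun s u => funext fun i => by
    have h : ∀ r : ZMod 3, r + (r + r) = 0 := by decide +kernel
    simp only [scal, rot_rot, h, rot_zero]
  obtain ⟨kx, hkx, hkxf⟩ := Φ.diag _ hsx
  obtain ⟨hxo, hxf⟩ := Φ.pow_four hkx hkxf (h3 _) ⟨tail (1, 0) 0, by decide +kernel⟩
  obtain ⟨ky, hky, hkyf⟩ := Φ.diag _ hsy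
  obtain ⟨hyo, hyf⟩ := Φ.pow_four hky hkyf (h3 _) ⟨tail 0 (1, 0), by decide +kernel⟩
  set x := kx ^ 4
  set y := ky ^ 4
  have hx : x ∈ H := H.pow_mem hkx 4
  have hy : y ∈ H := H.pow_mem hky 4
  -- conjugation by such an element inside the coset
  have hcoset : ∀ u ∈ H, ∀ g : Fin 4 → ZMod 3, (∀ v, scal g v ∘ sw = scal g (v ∘ sw)) → Φ.Acts u (scal g) →
      orderOf u = 3 → ∀ s, s ∈ H → Φ.IsSw s → s * s = 1 →
      ∃ c : V, c ∘ sw = c ∧ u * s * u⁻¹ = s * Φ.φ c ∧ c + scal g c + scal g (scal g c) = 0 := by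
    intro u hu g hgs hug ho s hs hssw hs2
    have hus : Φ.Acts (u * s * u⁻¹) (· ∘ sw) := fun v => by
      obtain ⟨w, rfl⟩ : ∃ w, scal g w = v := ⟨_, h3 g v⟩
      rw [← hug w, show u * s * u⁻¹ * (u * Φ.φ w * u⁻¹) * (u * s * u⁻¹)⁻¹ =
        u * (s * Φ.φ w * s⁻¹) * u⁻¹ by group, hssw w, hug]
      exact congrArg Φ.φ (hgs w).symm
    obtain ⟨c, hc, he⟩ := Φ.involution_of_coset hs (H.mul_mem (H.mul_mem hu hs) (H.inv_mem hu)) hssw hus
      hinv hs2 (by rw [show u * s * u⁻¹ * (u * s * u⁻¹) = u * (s * s) * u⁻¹ by group, hs2, mul_one, mul_inv_cancel])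
    refine ⟨c, hc, he, Φ.φ_inj ?_⟩
    have step : ∀ v, u * (s * Φ.φ v) * u⁻¹ = s * Φ.φ (c + scal g v) := fun v => by
      rw [show u * (s * Φ.φ v) * u⁻¹ = u * s * u⁻¹ * (u * Φ.φ v * u⁻¹) by group, he, hug v, mul_assoc, ← Φ.φ_add]
    have h1 : u * (u * (u * s * u⁻¹) * u⁻¹) * u⁻¹ = s * Φ.φ (c + scal g (c + scal g c)) := by rw [he, step, step]
    have hu3 : u ^ 3 = 1 := ho ▸ pow_orderOf_eq_one u
    rw [show u * (u * (u * s * u⁻¹) * u⁻¹) * u⁻¹ = u ^ 3 * s * (u ^ 3)⁻¹ by simp [pow_succ, mul_assoc], hu3, one_mul, inv_one, mul_one,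
      left_eq_mul, scal_add] at h1
    rw [Φ.φ_zero, ← h1, add_assoc]
  have hgx : ∀ v, scal ![0, 0, 1, -1] v ∘ sw = scal ![0, 0, 1, -1] (v ∘ sw) := fun v =>
    funext fun i => by fin_cases i <;> rfl
  have hgy : ∀ v, scal ![1, 1, 0, 1] v ∘ sw = scal ![1, 1, 0, 1] (v ∘ sw) := fun v =>
    funext fun i => by fin_cases i <;> rfl
  -- first move the last two coordinates
  obtain ⟨c, hc, hxc, hc3⟩ := hcoset x hx _ hgx hxf hxo t ht htsw ht2
  have hc0 : c 0 = 0 := three_self _ (by simpa [scal, rot_zero] using congrFun hc3 0)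
  have hc1 : c 1 = 0 := (congrFun hc 0).trans hc0
  obtain ⟨b, hb⟩ := rot_solve (c 2)
  obtain ⟨d, hd⟩ := rot_solve' (c 3)
  set w : V := ![0, 0, b, d] with hw
  have hwsw : w ∘ sw = w := hpair 0 b d
  have conj_t : ∀ v : V, v ∘ sw = v → Φ.IsSw (t * Φ.φ v) ∧ t * Φ.φ v * (t * Φ.φ v) = 1 := by
    intro v hv
    refine ⟨fun u => ?_, ?_⟩
    · have := (Acts.mul Φ (f := (· ∘ sw)) htsw (Φ.acts_A (Φ.φ_mem v))) u
      exact this
    · have h : t * Φ.φ v * t⁻¹ = Φ.φ (v ∘ sw) := htsw v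
      rw [hv, inv_eq_of_mul_eq_one_left ht2] at h
      rw [show t * Φ.φ v * (t * Φ.φ v) = t * Φ.φ v * t * Φ.φ v by group, h, Φ.φ_sq]
  have e1 : c + scal ![0, 0, 1, -1] w = w := by
    funext i; fin_cases i <;> simp [hw, scal, hc0, hc1, hb, hd, rot_zero, rot_apply_zero]
  set t₁ := t * Φ.φ w with ht₁
  obtain ⟨ht₁sw, ht₁2⟩ := conj_t w hwsw
  have ht₁H : t₁ ∈ H := H.mul_mem ht (Φ.A_le (Φ.φ_mem w))
  have hxt₁ : x * t₁ * x⁻¹ = t₁ := by
    rw [ht₁, show x * (t * Φ.φ w) * x⁻¹ = x * t * x⁻¹ * (x * Φ.φ w * x⁻¹) by group, hxc, hxf w, mul_assoc,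
      ← Φ.φ_add, e1]
  -- then the first two
  obtain ⟨e, he, hye, he3⟩ := hcoset y hy _ hgy hyf hyo t₁ ht₁H ht₁sw ht₁2
  have he2 : e 2 = 0 := three_self _ (by simpa [scal, rot_zero] using congrFun he3 2)
  have he3' : e 3 = 0 := by
    have hk : x * y * x⁻¹ * y⁻¹ ∈ A := by
      refine Φ.mem_A (H.mul_mem (H.mul_mem (H.mul_mem hx hy) (H.inv_mem hx)) (H.inv_mem hy))
        (f := id) (fun v => ?_) fun _ => rfl
      obtain ⟨u, rfl⟩ : ∃ u, scal ![1, 1, 0, 1] (scal ![0, 0, 1, -1] u) = v :=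
        ⟨scal ![0, 0, -1, 1] (scal ![-1, -1, 0, -1] v), funext fun i => by
          fin_cases i <;> simp [scal, rot_rot, rot_zero]⟩
      have hcomm : scal ![1, 1, 0, 1] (scal ![0, 0, 1, -1] u) = scal ![0, 0, 1, -1] (scal ![1, 1, 0, 1] u) :=
        funext fun i => by simp [scal, rot_rot, add_comm]
      rw [id_eq]
      conv_lhs => rw [← hyf, ← hxf]
      rw [hcomm, ← hxf, ← hyf u]
      group
    obtain ⟨r, hr⟩ := Φ.φ_surj _ hk
    have hconj : x * (t₁ * Φ.φ e) * x⁻¹ = Φ.φ r * (t₁ * Φ.φ e) * (Φ.φ r)⁻¹ := by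
      rw [← hye, hr]
      conv_rhs => rw [← hxt₁]
      group
    rw [Φ.conj_shift (mul_inv_eq_iff_eq_mul.1 hxt₁) hxf, Φ.shift_eq ht₁sw hinv, mul_right_inj] at hconj
    have := congrFun (Φ.φ_inj hconj) 3
    have hself : ∀ r e : F, rot (-1) e = r + e + r → e = 0 := by decide +kernel
    exact hself (r 3) _ (by simpa [scal, sw] using this)
  obtain ⟨a, ha⟩ := rot_solve (e 0)
  set u : V := ![a, a, 0, 0] with hu
  have hwu : (w + u) ∘ sw = w + u := funext fun i => by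
    have h1 := congrFun hwsw i
    have h2 := congrFun (hpair a 0 0) i
    exact congrArg₂ (· + ·) h1 h2
  have he1 : e 1 = e 0 := congrFun he 0
  obtain ⟨ht₂sw, ht₂2⟩ := conj_t _ hwu
  set t₂ := t₁ * Φ.φ u with ht₂
  have ht₂e : t * Φ.φ (w + u) = t₂ := by rw [ht₂, ht₁, Φ.φ_add, mul_assoc]
  rw [ht₂e] at ht₂sw ht₂2
  have hxt₂ : Commute x t₂ := by
    refine mul_inv_eq_iff_eq_mul.1 ?_
    rw [ht₂, Φ.conj_shift (mul_inv_eq_iff_eq_mul.1 hxt₁) hxf]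
    congr 2
    funext i; fin_cases i <;> simp [hu, scal, rot_zero, rot_apply_zero]
  have hyt₂ : Commute y t₂ := by
    refine mul_inv_eq_iff_eq_mul.1 ?_
    rw [ht₂, show y * (t₁ * Φ.φ u) * y⁻¹ = y * t₁ * y⁻¹ * (y * Φ.φ u * y⁻¹) by group, hye, hyf u, mul_assoc,
      ← Φ.φ_add]
    congr 2
    funext i; fin_cases i <;> simp [hu, scal, he1, he2, he3', ha, rot_zero, rot_apply_zero]
  have hprod : Φ.Acts (x * y) (scal ![1, 1, 1, 0]) := fun v => by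
    have h := (Acts.mul Φ (f := scal ![0, 0, 1, -1]) (g := scal ![1, 1, 0, 1]) hxf hyf) v
    rw [h]
    congr 1
    funext i; fin_cases i <;> simp [scal, rot_rot, rot_zero]
  obtain ⟨hzo, hzf⟩ := Φ.pow_four (H.mul_mem hx hy) hprod (h3 _) ⟨tail (1, 0) 0, by decide +kernel⟩
  exact ⟨t₂, x, y, (x * y) ^ 4, H.mul_mem ht₁H (Φ.A_le (Φ.φ_mem u)), ht₂sw, ht₂2, ⟨hx, hxo, hxt₂, hxf⟩,
    ⟨hy, hyo, hyt₂, hyf⟩, H.pow_mem (H.mul_mem hx hy) 4, hzo, (hxt₂.mul_left hyt₂).pow_left 4, hzf⟩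

/-- The involutions with the action of the exchange. -/
theorem classes_sw {t₂ x y z : X} (ht : t₂ ∈ H) (htsw : Φ.IsSw t₂) (ht2 : t₂ * t₂ = 1)
    (hx : x ∈ H ∧ orderOf x = 3 ∧ Commute x t₂ ∧ Φ.Acts x (scal ![0, 0, 1, -1]))
    (hy : y ∈ H ∧ orderOf y = 3 ∧ Commute y t₂ ∧ Φ.Acts y (scal ![1, 1, 0, 1]))
    (hz : z ∈ H ∧ orderOf z = 3 ∧ Commute z t₂ ∧ Φ.Acts z (scal ![1, 1, 1, 0]))
    {t : X} (ht' : t ∈ H) (htsw' : Φ.IsSw t) (ht2' : t * t = 1) :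
    Rich H t ∨ ∃ h ∈ H, t = h * (t₂ * Φ.φ (tail (1, 0) (1, 0))) * h⁻¹ := by
  obtain ⟨c, hc, rfl⟩ := Φ.involution_of_coset ht ht' htsw htsw' sw_facts.1 ht2 ht2'
  have hc' : c = ![c 0, c 0, c 2, c 3] := vec_facts.1 c hc
  -- clear the first two coordinates
  have hclear : t₂ * Φ.φ c = Φ.φ ![c 0, 0, 0, 0] * (t₂ * Φ.φ (tail (c 2) (c 3))) * (Φ.φ ![c 0, 0, 0, 0])⁻¹ := by
    have e : (![c 0, 0, 0, 0] : V) ∘ sw + tail (c 2) (c 3) + ![c 0, 0, 0, 0] = ![c 0, c 0, c 2, c 3] :=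
      funext fun i => by
        rw [show (![c 0, 0, 0, 0] : V) ∘ sw = ![0, c 0, 0, 0] from funext fun j => by fin_cases j <;> rfl]
        fin_cases i <;> simp [tail]
    rw [Φ.shift_eq htsw sw_facts.1, e, ← hc']
  set e₁ := Φ.φ ![c 0, 0, 0, 0]
  have he : e₁ ∈ H := Φ.A_le (Φ.φ_mem _)
  rw [hclear]
  by_cases hb : c 2 = 0
  · -- the third coordinate is zero
    refine Or.inl (Rich.conj ?_ he)
    obtain ⟨h1, h2, h3, h4⟩ := hz
    refine Φ.rich_shift h1 h2 h3 h4 ?_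
    rw [hb]
    funext i; fin_cases i <;> simp [tail, scal, rot_zero, rot_apply_zero]
  by_cases hd : c 3 = 0
  · refine Or.inl (Rich.conj ?_ he)
    obtain ⟨h1, h2, h3, h4⟩ := hy
    refine Φ.rich_shift h1 h2 h3 h4 ?_
    rw [hd]
    funext i; fin_cases i <;> simp [tail, scal, rot_zero, rot_apply_zero]
  -- the nine others are one orbit
  have hreach : ∀ b d : F, b ≠ 0 → d ≠ 0 → ∃ i j : ℕ, (scal ![0, 0, 1, -1])^[i] ((scal ![1, 1, 0, 1])^[j]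
      (tail (1, 0) (1, 0))) = tail b d := by
    have : ∀ b d : F, b ≠ 0 → d ≠ 0 → ∃ i < 3, ∃ j < 3, (scal ![0, 0, 1, -1])^[i] ((scal ![1, 1, 0, 1])^[j]
        (tail (1, 0) (1, 0))) = tail b d := by decide +kernel
    intro b d hb hd
    obtain ⟨i, -, j, -, h⟩ := this b d hb hd
    exact ⟨i, j, h⟩
  obtain ⟨i, j, hij⟩ := hreach _ _ hb hd
  refine Or.inr ⟨e₁ * (x ^ i * y ^ j), H.mul_mem he (H.mul_mem (H.pow_mem hx.1 i) (H.pow_mem hy.1 j)), ?_⟩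
  have e2 := Φ.conj_shift ((hx.2.2.1.pow_left i).mul_left (hy.2.2.1.pow_left j))
    ((hx.2.2.2.pow Φ i).mul Φ (hy.2.2.2.pow Φ j)) (tail (1, 0) (1, 0))
  simp only [Function.comp] at e2
  rw [hij] at e2
  rw [← e2]
  group

theorem witness_facts :
    (∃ p ∈ perms, ∃ s, Sumz s ∧ mv s p (tail (1, 0) 0) = one₀) ∧
    (∃ p ∈ perms, ∃ s, Sumz s ∧ mv s p (tail (1, 0) (0, 1)) = pair) ∧
    tail (1, 0) 0 ≠ 0 ∧ tail (1, 0) (0, 1) ≠ 0 ∧
    tail (1, 0) (1, 0) + tail (1, 0) 0 = tail 0 (1, 0) ∧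
    tail (1, 0) (1, 0) + tail (1, 0) (0, 1) = tail 0 (1, 1) := by
  have h : ((perms.any fun p => sums.any fun s => mv s p (tail (1, 0) 0) == one₀) &&
      perms.any fun p => sums.any fun s => mv s p (tail (1, 0) (0, 1)) == pair) = true := by decide +kernel
  simp only [Bool.and_eq_true, List.any_eq_true, beq_iff_eq] at h
  obtain ⟨⟨p, hp, s, hs, e⟩, q, hq, r, hr, e'⟩ := h
  exact ⟨⟨p, hp, s, sums_sumz s hs, e⟩, ⟨q, hq, r, sums_sumz r hr, e'⟩, by decide +kernel, by decide +kernel,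
    by decide +kernel, by decide +kernel⟩

theorem coord_sub : ∀ x : F, x + rot 1 x = 0 → x = 0 := by decide +kernel

include Φ in
/-- `A` has no proper non-trivial subgroup normalised by `H`. -/
theorem irred (B : Subgroup X) (hB : B ≤ A) (hBH : ∀ h ∈ H, ∀ b ∈ B, h * b * h⁻¹ ∈ B) : B = ⊥ ∨ B = A := by
  refine or_iff_not_imp_left.2 fun hne => le_antisymm hB ?_
  have act : ∀ {h : X} {f : V → V}, h ∈ H → Φ.Acts h f → ∀ v, Φ.φ v ∈ B → Φ.φ (f v) ∈ B :=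
    fun {h f} hh hf v hv => hf v ▸ hBH h hh _ hv
  obtain ⟨a, ha, ha1⟩ : ∃ a ∈ B, a ≠ 1 := by
    by_contra! h
    exact hne (B.eq_bot_iff_forall.2 h)
  obtain ⟨v, rfl⟩ := Φ.φ_surj a (hB ha)
  obtain ⟨h, hh, f, hf, hv⟩ := Φ.exists_orbit (fun e => ha1 (Φ.φ_eq_one.2 e))
  have h1 : Φ.φ one₀ ∈ B := by
    rcases hv with e | e
    · exact e ▸ act hh hf v ha
    have hs : Sumz (![1, 0, -1, 0] : Fin 4 → ZMod 3) := by decide +kernel
    obtain ⟨k, hk, hkf⟩ := Φ.diag _ hs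
    have hsum : Φ.φ (pair + scal ![1, 0, -1, 0] pair) ∈ B := by
      rw [Φ.φ_add, ← e]
      exact B.mul_mem (act hh hf v ha) (act hk hkf _ (act hh hf v ha))
    have hs' : Sumz (![-1, 1, 0, 0] : Fin 4 → ZMod 3) := by decide +kernel
    obtain ⟨l, hl, hlf⟩ := Φ.diag _ hs'
    obtain ⟨m, hm, hmf⟩ := Φ.diag ![1, -1, 0, 0] (by decide +kernel)
    rcases (show pair + scal ![1, 0, -1, 0] pair = one₀ ∨ scal ![-1, 1, 0, 0] (pair + scal ![1, 0, -1, 0] pair) =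
        one₀ ∨ scal ![1, -1, 0, 0] (pair + scal ![1, 0, -1, 0] pair) = one₀ by decide +kernel) with h | h | h
    · exact h ▸ hsum
    · exact h ▸ act hl hlf _ hsum
    · exact h ▸ act hm hmf _ hsum
  intro b hb
  obtain ⟨w, rfl⟩ := Φ.φ_surj b hb
  have single : ∀ (i : Fin 4) (x : F), Φ.φ (Pi.single i x) ∈ B := by
    intro i x
    by_cases hx : x = 0
    · rw [hx, Pi.single_zero, Φ.φ_zero]; exact B.one_mem
    have key : ∀ (i : Fin 4) (x : F), x ≠ 0 →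
        ∃ p ∈ perms, ∃ s ∈ sums, mv s p one₀ = Pi.single i x := by decide +kernel
    obtain ⟨p, hp, s, hs, e⟩ := key i x hx
    obtain ⟨k, hk, hkf⟩ := Φ.acts_mv hp (sums_sumz s hs)
    exact e ▸ act hk hkf _ h1
  have hw : w = Pi.single 0 (w 0) + Pi.single 1 (w 1) + Pi.single 2 (w 2) + Pi.single 3 (w 3) :=
    funext fun i => by fin_cases i <;> simp
  rw [hw, Φ.φ_add, Φ.φ_add, Φ.φ_add]
  exact B.mul_mem (B.mul_mem (B.mul_mem (single _ _) (single _ _)) (single _ _)) (single _ _)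

include Φ in
/-- Every conjugate in `H` of an element of `A` lies in `A`. -/
theorem closed (hM : Meet A H) {a : X} (ha : a ∈ A) {g : X} (hga : g * a * g⁻¹ ∈ H) : g * a * g⁻¹ ∈ A := by
  by_cases hall : ∀ t ∈ H, t ∉ A → t * t = 1 → Rich H t
  · by_contra hA
    have ha1 : a ≠ 1 := fun e => hA (by rw [e, mul_one, mul_inv_cancel]; exact A.one_mem)
    have hsq : g * a * g⁻¹ * (g * a * g⁻¹) = 1 := by
      rw [show g * a * g⁻¹ * (g * a * g⁻¹) = g * (a * a) * g⁻¹ by group, Φ.sq ha, mul_one, mul_inv_cancel]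
    obtain ⟨h, hh, he⟩ := hM.fusion ha ha1 (Φ.rich ha ha1) (hall _ hga hA hsq) rfl
    exact hA (he ▸ Φ.conj_A hh ha)
  push Not at hall
  obtain ⟨t, ht, htA, ht2, hnr⟩ := hall
  obtain ⟨k, hk, hksw⟩ := (Φ.cases_sw ht htA ht2).resolve_left hnr
  obtain ⟨t₂, x, y, z, ht₂, hsw₂, h22, hx, hy, hz⟩ := Φ.exists_origin (H.mul_mem (H.mul_mem hk ht) (H.inv_mem hk))
    hksw (by rw [show k * t * k⁻¹ * (k * t * k⁻¹) = k * (t * t) * k⁻¹ by group, ht2, mul_one, mul_inv_cancel])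
  set n₁ : V := tail (1, 0) (1, 0)
  set t₀ := t₂ * Φ.φ n₁ with ht₀
  have htail : ∀ b d : F, Commute t₂ (Φ.φ (tail b d)) := fun b d =>
    Φ.commute_of_fix hsw₂ (funext fun i => by fin_cases i <;> rfl)
  have ht₀A : t₀ ∉ A := fun h => by
    obtain ⟨v, hv⟩ := sw_facts.2
    exact hv ((hsw₂.unique Φ (Φ.acts_A ((A.mul_mem_cancel_right (Φ.φ_mem _)).1 h))) v)
  have ht₀2 : t₀ * t₀ = 1 := by
    rw [ht₀, show t₂ * Φ.φ n₁ * (t₂ * Φ.φ n₁) = t₂ * (Φ.φ n₁ * t₂) * Φ.φ n₁ by group, ← (htail _ _).eq,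
      show t₂ * (t₂ * Φ.φ n₁) * Φ.φ n₁ = t₂ * t₂ * (Φ.φ n₁ * Φ.φ n₁) by group, h22, Φ.φ_sq, mul_one]
  have facts : Facts A H t₀ := by
    obtain ⟨⟨p, hp, s, hs, eu⟩, ⟨q, hq, r, hr, ev⟩, hu0, hv0, hsu, hsv⟩ := witness_facts
    refine ⟨Φ.normalizer, hM, fun b hb c hc => Φ.comm hb hc, fun b hb => Φ.sq hb, fun b hb hb1 => Φ.rich hb hb1,
      H.mul_mem ht₂ (Φ.A_le (Φ.φ_mem _)), ht₀A, ht₀2, fun u hu huA hu2 => ?_,
      ⟨Φ.φ (tail (1, 0) 0), Φ.φ (tail (1, 0) (0, 1)), Φ.φ_mem _, Φ.φ_mem _,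
        ((htail _ _).symm).mul_right (Φ.φ_comm _ _), ((htail _ _).symm).mul_right (Φ.φ_comm _ _), ?_, ?_,
        fun e => hu0 (Φ.φ_eq_one.1 e), fun e => hv0 (Φ.φ_eq_one.1 e), fun h hh he => ?_⟩, Φ.irred⟩
    · rcases Φ.cases_sw hu huA hu2 with h | ⟨m, hm, hmsw⟩
      · exact Or.inl h
      have hu' : m * u * m⁻¹ ∈ H := H.mul_mem (H.mul_mem hm hu) (H.inv_mem hm)
      rcases Φ.classes_sw ht₂ hsw₂ h22 hx hy hz hu' hmsw
          (by rw [show m * u * m⁻¹ * (m * u * m⁻¹) = m * (u * u) * m⁻¹ by group, hu2, mul_one, mul_inv_cancel])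
        with h | ⟨n, hn, he⟩
      · left
        have := h.conj (H.inv_mem hm)
        rwa [inv_inv, show m⁻¹ * (m * u * m⁻¹) * m = u by group] at this
      · refine Or.inr ⟨m⁻¹ * n, H.mul_mem (H.inv_mem hm) hn, ?_⟩
        rw [show u = m⁻¹ * (m * u * m⁻¹) * m by group, he, ht₀]
        group
        rfl
    · rw [ht₀, mul_assoc, ← Φ.φ_add, hsu]
      exact Φ.rich_shift hz.1 hz.2.1 hz.2.2.1 hz.2.2.2 (by decide +kernel)
    · rw [ht₀, mul_assoc, ← Φ.φ_add, hsv]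
      exact Φ.rich_shift hz.1 hz.2.1 hz.2.2.1 hz.2.2.2 (by decide +kernel)
    · obtain ⟨k₁, hk₁, hf₁⟩ := Φ.acts_mv hp hs
      obtain ⟨k₂, hk₂, hf₂⟩ := Φ.acts_mv hq hr
      obtain ⟨f, hf⟩ := Φ.exists_acts (H.mul_mem (H.mul_mem hk₂ hh) (H.inv_mem hk₁))
      refine Φ.one₀_ne_pair (H.mul_mem (H.mul_mem hk₂ hh) (H.inv_mem hk₁)) hf (Φ.φ_inj ?_)
      rw [← hf, ← eu, ← hf₁, ← ev, ← hf₂, ← he]
      group
  exact facts.closed ha hga

end Frame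

end Cfsg.Agent.CoTwoThree
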